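import Cfsg.Agent.BlocksB.DihedralPrincipal.Setup
import Cfsg.Agent.Kinf.SectionOrth
import Cfsg.Agent.Blocks.Correspond

/-!
# The retraction of the centralizer of the central involution and the column relations
-/

set_option autoImplicit false
set_option linter.style.haveILetI false
set_option linter.unusedSectionVars false

namespace CfsgLib.DihPrincipal

open Cfsg Finset CfsgLib.Block CfsgLib.Block.Chr CfsgLib.SectionCount
open scoped ComplexConjugate
open scoped Classical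

universe u

/-- A normal subgroup of odd order and `p`-power index is the core. -/
theorem core_index {H : Type u} [Group H] [Finite H] {p : ℕ} [Fact p.Prime] (N : Subgroup H)
    [N.Normal] (hN : (Nat.card N).Coprime p) {a : ℕ} (ha : N.index = p ^ a) :
    (Cfsg.pPrimeCore p H).index = p ^ a := by
  refine Nat.dvd_antisymm (ha ▸ Subgroup.index_dvd_of_le (CfsgLib.Solvable.le_pPrimeCore p ‹N.Normal› hN)) ?_
  have h4 : p ^ a ∣ Nat.card (Cfsg.pPrimeCore p H) * (Cfsg.pPrimeCore p H).index := by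
    rw [Subgroup.card_mul_index, ← N.card_mul_index, ha]
    exact dvd_mul_left _ _
  exact ((CfsgLib.Solvable.coprime_card_pPrimeCore p).symm.pow_left a).dvd_of_dvd_mul_left h4

variable {G : Type u} [Group G] [Fintype G] [Fact (Nat.Prime 2)] {P : Sylow 2 G} {σ τ : G} {n : ℕ}

namespace Data

variable (D : Data P σ τ n)
include D

theorem q_eq : orderOf σ = 2 * 2 ^ (n - 2) := D.ordσ.trans (two_mul_pow D.hn)

theorem two_le_half : 2 ≤ 2 ^ (n - 2) := by
  have := D.hn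
  calc 2 = 2 ^ 1 := rfl
    _ ≤ 2 ^ (n - 2) := Nat.pow_le_pow_right two_pos (by omega)

theorem card_sylow : Nat.card (P : Subgroup G) = 2 ^ n := by
  obtain ⟨e⟩ := D.iso
  have := D.hn
  rw [Nat.card_congr e.toEquiv, DihedralGroup.nat_card, ← pow_succ', show n - 1 + 1 = n by omega]

theorem le_sylow : Subgroup.zpowers σ ≤ (P : Subgroup G) := Subgroup.zpowers_le.2 D.σ_mem

theorem conj_τ {u : G} (hu : u ∈ Subgroup.zpowers σ) : τ * u * τ⁻¹ = u⁻¹ := by
  obtain ⟨i, rfl⟩ := Subgroup.mem_zpowers_iff.1 hu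
  rw [CfsgLib.Invol.conj_zpow_of_inverts D.rel, zpow_neg]

theorem z_ne_one : σ ^ 2 ^ (n - 2) ≠ 1 := fun h => by
  have h1 := Nat.le_of_dvd (Nat.two_pow_pos _) (orderOf_dvd_of_pow_eq_one h)
  have := D.two_le_half
  rw [D.q_eq] at h1
  omega

theorem z_sq : σ ^ 2 ^ (n - 2) * σ ^ 2 ^ (n - 2) = 1 := by
  rw [← pow_add, ← two_mul, ← D.q_eq, pow_orderOf_eq_one]

theorem z_inv : (σ ^ 2 ^ (n - 2))⁻¹ = σ ^ 2 ^ (n - 2) := inv_eq_of_mul_eq_one_right D.z_sq

theorem orderOf_z : orderOf (σ ^ 2 ^ (n - 2)) = 2 :=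
  CfsgLib.Invol.orderOf_eq_two D.z_sq D.z_ne_one

omit D in
theorem z_mem_zpowers : σ ^ 2 ^ (n - 2) ∈ Subgroup.zpowers σ := Subgroup.npow_mem_zpowers _ _

theorem eq_z {w : G} (hw : w ∈ Subgroup.zpowers σ) (h : w * w = 1) :
    w = 1 ∨ w = σ ^ 2 ^ (n - 2) := by
  obtain ⟨l, hl⟩ := mem_powers_iff_mem_zpowers.2 hw
  subst hl
  have h1 : orderOf σ ∣ l + l := orderOf_dvd_of_pow_eq_one ((pow_add σ l l).trans h)
  rw [D.q_eq, ← two_mul] at h1
  obtain ⟨c, rfl⟩ := (mul_dvd_mul_iff_left (two_ne_zero (α := ℕ))).1 h1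
  show σ ^ (2 ^ (n - 2) * c) = 1 ∨ σ ^ (2 ^ (n - 2) * c) = σ ^ 2 ^ (n - 2)
  rcases Nat.even_or_odd c with ⟨e, rfl⟩ | ⟨e, rfl⟩
  · exact Or.inl (by rw [pow_mul, ← two_mul, pow_mul, sq, D.z_sq, one_pow])
  · exact Or.inr (by rw [pow_mul, pow_succ, pow_mul, sq, D.z_sq, one_pow, one_mul])

theorem commute_z {g : G} (hg : g ∈ (P : Subgroup G)) : Commute g (σ ^ 2 ^ (n - 2)) := by
  have hA : ∀ w ∈ Subgroup.zpowers σ, Commute w (σ ^ 2 ^ (n - 2)) := fun w hw => by
    obtain ⟨i, rfl⟩ := Subgroup.mem_zpowers_iff.1 hw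
    exact ((Commute.refl σ).zpow_left i).pow_right _
  rcases D.cases g hg with h | h
  · exact hA g h
  · have hτ : Commute τ (σ ^ 2 ^ (n - 2)) :=
      mul_inv_eq_iff_eq_mul.1 ((D.conj_τ z_mem_zpowers).trans D.z_inv)
    have := (hA _ h).mul_left hτ.inv_left
    rwa [mul_inv_cancel_right] at this

theorem le_centralizer : (P : Subgroup G) ≤ Subgroup.centralizer ({σ ^ 2 ^ (n - 2)} : Set G) :=
  fun _ hg => Subgroup.mem_centralizer_singleton_iff.2 (D.commute_z hg).eq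

theorem exists_pow_eq_z {v : G} (hv : v ∈ Subgroup.zpowers σ) (hv1 : v ≠ 1) :
    ∃ e : ℕ, v ^ e = σ ^ 2 ^ (n - 2) := by
  obtain ⟨k, hk⟩ := (IsPGroup.iff_orderOf).1 P.2 ⟨v, D.le_sylow hv⟩
  rw [Subgroup.orderOf_mk] at hk
  rcases k with _ | k
  · exact absurd (orderOf_eq_one_iff.1 (by simpa using hk)) hv1
  refine ⟨2 ^ k, (D.eq_z (pow_mem hv _) ?_).resolve_left fun h => ?_⟩
  · rw [← pow_add, ← two_mul, ← pow_succ', ← hk, pow_orderOf_eq_one]
  · have h1 := Nat.le_of_dvd (Nat.two_pow_pos _) (orderOf_dvd_of_pow_eq_one h)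
    rw [hk, pow_succ] at h1
    have := Nat.two_pow_pos k
    omega

theorem centralizer_le {v : G} (hv : v ∈ Subgroup.zpowers σ) (hv1 : v ≠ 1) :
    Subgroup.centralizer ({v} : Set G) ≤ Subgroup.centralizer ({σ ^ 2 ^ (n - 2)} : Set G) := by
  intro g hg
  obtain ⟨e, he⟩ := D.exists_pow_eq_z hv hv1
  rw [Subgroup.mem_centralizer_singleton_iff, ← he]
  exact (show Commute g v from Subgroup.mem_centralizer_singleton_iff.1 hg).pow_right e

theorem hasNormalPComplement :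
    Cfsg.HasNormalPComplement 2 ↥(Subgroup.centralizer ({σ ^ 2 ^ (n - 2)} : Set G)) := by
  obtain ⟨e⟩ := D.iso
  refine CfsgLib.Fusion.hasNormalPComplement_of_localCondition ?_
  refine localCondition_of_central (P.subtype D.le_centralizer) (m := 2 ^ (n - 1))
    (Nat.pow_le_pow_right two_pos (show 2 ≤ n - 1 by have := D.hn; omega))
    ((Subgroup.subgroupOfEquivOfLe D.le_centralizer).trans e)
    (z := ⟨σ ^ 2 ^ (n - 2), Subgroup.mem_centralizer_singleton_iff.2 rfl⟩) ?_ ?_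
  · rw [Subgroup.orderOf_mk]; exact D.orderOf_z
  · exact Subgroup.mem_center_iff.2 fun g =>
      Subtype.ext (Subgroup.mem_centralizer_singleton_iff.1 g.2)

theorem index_core_z : (core 2 (σ ^ 2 ^ (n - 2))).index = 2 ^ n := by
  obtain ⟨a, ha, hc⟩ := CfsgLib.PairSimple.index_core D.hasNormalPComplement P D.le_centralizer
  rw [ha, ← hc, D.card_sylow]

/-- The retraction on the Sylow subgroup. -/
theorem exists_retraction :
    ∃ ρ : ↥(Subgroup.centralizer ({σ ^ 2 ^ (n - 2)} : Set G)) →* (P : Subgroup G),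
      ρ.ker = core 2 (σ ^ 2 ^ (n - 2)) ∧
      ∀ s : (P : Subgroup G), ρ ⟨s, D.le_centralizer s.2⟩ = s := by
  haveI := CfsgLib.Solvable.pPrimeCore_normal
    (G := Subgroup.centralizer ({σ ^ 2 ^ (n - 2)} : Set G)) 2
  set f : (P : Subgroup G) →*
      ↥(Subgroup.centralizer ({σ ^ 2 ^ (n - 2)} : Set G)) ⧸ core 2 (σ ^ 2 ^ (n - 2)) :=
    (QuotientGroup.mk' _).comp (Subgroup.inclusion D.le_centralizer) with hf
  have hinj : Function.Injective f := by
    rw [← MonoidHom.ker_eq_bot_iff, eq_bot_iff]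
    intro s hs
    rw [MonoidHom.mem_ker, hf, MonoidHom.comp_apply, QuotientGroup.mk'_apply,
      QuotientGroup.eq_one_iff] at hs
    obtain ⟨k, hk⟩ := IsPGroup.iff_orderOf.1 P.2 s
    have h1 := CfsgLib.SectionCount.not_dvd_orderOf Nat.prime_two hs
    rw [orderOf_injective _ (Subgroup.inclusion_injective _) s, hk] at h1
    rcases k with _ | k
    · exact Subgroup.mem_bot.2 (orderOf_eq_one_iff.1 (by simpa using hk))
    · exact absurd (dvd_pow_self 2 (by omega)) h1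
  have hbij : Function.Bijective f := (Nat.bijective_iff_injective_and_card f).2
    ⟨hinj, by rw [D.card_sylow, ← D.index_core_z]; rfl⟩
  refine ⟨(MulEquiv.ofBijective f hbij).symm.toMonoidHom.comp (QuotientGroup.mk' _), ?_, fun s => ?_⟩
  · ext g
    rw [MonoidHom.mem_ker, MonoidHom.comp_apply, MulEquiv.coe_toMonoidHom,
      MulEquiv.map_eq_one_iff, QuotientGroup.mk'_apply, QuotientGroup.eq_one_iff]
  · exact (MulEquiv.ofBijective f hbij).symm_apply_apply s

/-- The retraction, chosen. -/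
noncomputable def ret :
    ↥(Subgroup.centralizer ({σ ^ 2 ^ (n - 2)} : Set G)) →* (P : Subgroup G) :=
  D.exists_retraction.choose

theorem ker_ret : D.ret.ker = core 2 (σ ^ 2 ^ (n - 2)) := D.exists_retraction.choose_spec.1

theorem ret_apply (s : (P : Subgroup G)) : D.ret ⟨s, D.le_centralizer s.2⟩ = s :=
  D.exists_retraction.choose_spec.2 s

theorem ret_apply' {g : G} (hg : g ∈ Subgroup.centralizer ({σ ^ 2 ^ (n - 2)} : Set G))
    (hgP : g ∈ (P : Subgroup G)) : D.ret ⟨g, hg⟩ = ⟨g, hgP⟩ := D.ret_apply ⟨g, hgP⟩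

/-- The elements of the Sylow subgroup commuting with a rotation of order more than two. -/
theorem mem_of_commute {v g : G} (hv : v ∈ Subgroup.zpowers σ) (hv1 : v ≠ 1)
    (hvz : v ≠ σ ^ 2 ^ (n - 2)) (hg : g ∈ (P : Subgroup G)) (hc : g * v = v * g) :
    g ∈ Subgroup.zpowers σ := by
  refine (D.cases g hg).resolve_right fun h => ?_
  have h1 : g * τ * v = v * (g * τ) := by
    obtain ⟨i, hi⟩ := Subgroup.mem_zpowers_iff.1 h
    obtain ⟨j, rfl⟩ := Subgroup.mem_zpowers_iff.1 hv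
    rw [← hi, ← zpow_add, ← zpow_add, add_comm]
  have h2 : τ * v = v⁻¹ * τ := mul_inv_eq_iff_eq_mul.1 (D.conj_τ hv)
  have h3 : τ * v = v * τ := by
    refine mul_left_cancel (a := g) ?_
    rw [← mul_assoc, h1, ← mul_assoc, ← hc, mul_assoc]
  have h4 : v * v = 1 := by
    rw [h2] at h3
    have := mul_right_cancel h3
    exact inv_eq_iff_mul_eq_one.1 this
  rcases D.eq_z hv h4 with h5 | h5
  exacts [hv1 h5, hvz h5]

theorem index_core_rot {v : G} (hv : v ∈ Subgroup.zpowers σ) (hv1 : v ≠ 1)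
    (hvz : v ≠ σ ^ 2 ^ (n - 2)) : (core 2 v).index = 2 ^ (n - 1) := by
  set f := D.ret.comp (Subgroup.inclusion (D.centralizer_le hv hv1)) with hf
  have hrange : f.range = (Subgroup.zpowers σ).subgroupOf (P : Subgroup G) := by
    refine le_antisymm ?_ fun s hs => ?_
    · rintro _ ⟨g, rfl⟩
      refine Subgroup.mem_subgroupOf.2 (D.mem_of_commute hv hv1 hvz (f g).2 ?_)
      have hvC : v ∈ Subgroup.centralizer ({v} : Set G) :=
        Subgroup.mem_centralizer_singleton_iff.2 rfl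
      have h2 : g * ⟨v, hvC⟩ = ⟨v, hvC⟩ * g :=
        Subtype.ext (Subgroup.mem_centralizer_singleton_iff.1 g.2)
      have h3 := congrArg Subtype.val (congrArg f h2)
      rw [map_mul, map_mul, show f ⟨v, hvC⟩ = ⟨v, D.le_sylow hv⟩ from
        D.ret_apply ⟨v, D.le_sylow hv⟩] at h3
      exact h3
    · obtain ⟨i, hi⟩ := Subgroup.mem_zpowers_iff.1 (Subgroup.mem_subgroupOf.1 hs)
      obtain ⟨j, rfl⟩ := Subgroup.mem_zpowers_iff.1 hv
      refine ⟨⟨s, Subgroup.mem_centralizer_singleton_iff.2 ?_⟩, D.ret_apply s⟩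
      rw [← hi, ← zpow_add, ← zpow_add, add_comm]
  refine core_index f.ker ?_ ?_
  · have h1 : Nat.card f.ker ∣ Nat.card (core 2 (σ ^ 2 ^ (n - 2))) :=
      Subgroup.card_dvd_of_injective
        (((Subgroup.inclusion (D.centralizer_le hv hv1)).comp f.ker.subtype).codRestrict _
          fun g => by
            rw [← D.ker_ret, MonoidHom.mem_ker]
            exact g.2)
        ((MonoidHom.injective_codRestrict _ _ _).2
          ((Subgroup.inclusion_injective (D.centralizer_le hv hv1)).comp f.ker.subtype_injective))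
    exact (CfsgLib.Solvable.coprime_card_pPrimeCore 2).coprime_dvd_left h1
  · rw [Subgroup.index_ker, hrange, Nat.card_congr (Subgroup.subgroupOfEquivOfLe D.le_sylow).toEquiv,
      Nat.card_zpowers, D.ordσ]

/-- **Fusion of rotations.** -/
theorem fusion {u v : G} (hu : u ∈ Subgroup.zpowers σ) (hv : v ∈ Subgroup.zpowers σ) (hv1 : v ≠ 1)
    (h : IsConj v u) : u = v ∨ u = v⁻¹ := by
  obtain ⟨c, hc⟩ := isConj_iff.1 h
  obtain ⟨e, he⟩ := D.exists_pow_eq_z hv hv1
  have hue : c * σ ^ 2 ^ (n - 2) * c⁻¹ = u ^ e := by rw [← he, ← hc, conj_pow]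
  have hu2 : u ^ e = σ ^ 2 ^ (n - 2) := by
    refine (D.eq_z (pow_mem hu e) ?_).resolve_left fun h1 => ?_
    · rw [← hue]
      show MulAut.conj c (σ ^ 2 ^ (n - 2)) * MulAut.conj c (σ ^ 2 ^ (n - 2)) = 1
      rw [← map_mul, D.z_sq, map_one]
    · rw [h1, conj_eq_one_iff] at hue
      exact D.z_ne_one hue
  have hcC : c ∈ Subgroup.centralizer ({σ ^ 2 ^ (n - 2)} : Set G) :=
    Subgroup.mem_centralizer_singleton_iff.2 (mul_inv_eq_iff_eq_mul.1 (hue.trans hu2))
  have h3 : (⟨c, hcC⟩ : ↥(Subgroup.centralizer ({σ ^ 2 ^ (n - 2)} : Set G))) *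
      ⟨v, D.le_centralizer (D.le_sylow hv)⟩ * ⟨c, hcC⟩⁻¹ =
      ⟨u, D.le_centralizer (D.le_sylow hu)⟩ := Subtype.ext hc
  have h4 := congrArg D.ret h3
  rw [map_mul, map_mul, map_inv, D.ret_apply' _ (D.le_sylow hv), D.ret_apply' _ (D.le_sylow hu)] at h4
  obtain ⟨s, hs, h5⟩ : ∃ s : G, s ∈ (P : Subgroup G) ∧ s * v * s⁻¹ = u :=
    ⟨_, (D.ret ⟨c, hcC⟩).2, congrArg Subtype.val h4⟩
  rcases D.cases s hs with hs' | hs'
  · left
    obtain ⟨i, rfl⟩ := Subgroup.mem_zpowers_iff.1 hs'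
    obtain ⟨j, rfl⟩ := Subgroup.mem_zpowers_iff.1 hv
    rw [← h5, ← zpow_add, ← zpow_neg, ← zpow_add]
    congr 1
    ring
  · right
    obtain ⟨i, hi⟩ := Subgroup.mem_zpowers_iff.1 hs'
    have hτi := CfsgLib.Invol.inv_eq_self D.ordτ
    obtain ⟨j, hj⟩ := Subgroup.mem_zpowers_iff.1 (inv_mem hv)
    rw [← h5, show s = σ ^ i * τ⁻¹ by rw [hi, mul_inv_cancel_right],
      show σ ^ i * τ⁻¹ * v * (σ ^ i * τ⁻¹)⁻¹ = σ ^ i * (τ⁻¹ * v * (τ⁻¹)⁻¹) * (σ ^ i)⁻¹ by group,
      hτi, D.conj_τ hv, ← hj, ← zpow_add, ← zpow_neg, ← zpow_add]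
    congr 1
    ring

theorem isConj_inv {v : G} (hv : v ∈ Subgroup.zpowers σ) : IsConj v v⁻¹ :=
  isConj_iff.2 ⟨τ, D.conj_τ hv⟩

theorem exists_orderOf {u : G} (hu : u ∈ Subgroup.zpowers σ) : ∃ k, orderOf u = 2 ^ k := by
  obtain ⟨k, hk⟩ := IsPGroup.iff_orderOf.1 P.2 ⟨u, D.le_sylow hu⟩
  exact ⟨k, by rw [← hk, Subgroup.orderOf_mk]⟩

variable {M : Ideal AlgInt} [M.IsPrime] [Fintype (IrrCharacter G)]

/-- **The column relations.** -/
theorem gram (hM : IsPModular 2 M) {u v : G} (hu : u ∈ Subgroup.zpowers σ)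
    (hv : v ∈ Subgroup.zpowers σ) (hu1 : u ≠ 1) (hv1 : v ≠ 1) :
    ∑ χ ∈ univ.filter (· ∈ principalBlock M G), (χ : G → ℂ) u * conj ((χ : G → ℂ) v) =
      (2 ^ (n - 1) : ℂ) * ((if u = v then 1 else 0) + if u = v⁻¹ then 1 else 0) := by
  obtain ⟨k, hk⟩ := D.exists_orderOf hu
  obtain ⟨l, hl⟩ := D.exists_orderOf hv
  have := D.hn
  by_cases hc : u = v ∨ u = v⁻¹
  · have hχ : ∀ χ : IrrCharacter G, (χ : G → ℂ) v = (χ : G → ℂ) u := by
      intro χ
      rcases hc with h | h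
      · rw [h]
      · rw [h]
        exact CfsgLib.Char.IsClassFunction.apply_eq_of_isConj (isClassFunction_irr χ) (D.isConj_inv hv)
    simp only [hχ]
    by_cases hz : u = σ ^ 2 ^ (n - 2)
    · have hv' : v = u := by
        rcases hc with h | h
        · exact h.symm
        · rw [hz] at h ⊢; rw [← inv_inv v, ← h, D.z_inv]
      rw [sum_sq_principal hM hk (a := n) (by rw [hz]; exact D.index_core_z), hv', if_pos rfl,
        if_pos (by rw [hz, D.z_inv])]
      obtain ⟨m, rfl⟩ : ∃ m, n = m + 1 := ⟨n - 1, by omega⟩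
      push_cast
      rw [pow_succ]
      ring
    · rw [sum_sq_principal hM hk (a := n - 1) (D.index_core_rot hu hu1 hz)]
      have hne : u ≠ u⁻¹ := fun h => by
        rcases D.eq_z hu (eq_inv_iff_mul_eq_one.1 h) with h1 | h1
        exacts [hu1 h1, hz h1]
      rcases hc with rfl | rfl
      · rw [if_pos rfl, if_neg hne]; push_cast; ring
      · rw [inv_inv] at hne
        rw [if_neg hne, if_pos rfl]; push_cast; ring
  · rw [not_or] at hc
    rw [if_neg hc.1, if_neg hc.2, add_zero, mul_zero]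
    have hnc : ¬ IsConj u v := fun h => by
      rcases D.fusion hu hv hv1 h.symm with h1 | h1
      exacts [hc.1 h1, hc.2 h1]
    by_cases hz : u = σ ^ 2 ^ (n - 2)
    · exact sum_principal_eq_zero hM hk hl (a := n) (by rw [hz]; exact D.index_core_z) hnc
    · exact sum_principal_eq_zero hM hk hl (D.index_core_rot hu hu1 hz) hnc

/-- The members of the principal block do not vanish at the central involution. -/
theorem apply_z_ne_zero (hM : IsPModular 2 M) {χ : IrrCharacter G}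
    (hχ : χ ∈ principalBlock M G) : (χ : G → ℂ) (σ ^ 2 ^ (n - 2)) ≠ 0 := by
  refine irr_apply_ne_zero_of_centralChar (M := M) fun h => ?_
  have h1 := sameBlock_symm (show SameBlock M (fun _ => (1 : ℂ)) (χ : G → ℂ) from hχ)
    (σ ^ 2 ^ (n - 2))
  have h2 : MemLocalIdeal M (centralChar (fun _ : G => (1 : ℂ)) (σ ^ 2 ^ (n - 2))) := by
    have := memLocalIdeal_sub h h1
    rwa [sub_sub_cancel] at this
  simp only [centralChar, mul_one, div_one] at h2
  have h3 := (memLocalIdeal_natCast_iff hM).1 h2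
  exact P.not_dvd_index (h3.trans (Subgroup.index_dvd_of_le D.le_centralizer))

end Data

end CfsgLib.DihPrincipal
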