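import Cfsg.Agent.Invol.DihedralFusion
import Cfsg.Agent.Transfer.Frobenius
import Cfsg.Agent.Kinf.PairSimple
import Cfsg.Agent.Blocks.LocalPrincipal

/-!
# A dihedral Sylow 2-subgroup: the centralizers of the rotations
-/

set_option autoImplicit false
set_option linter.style.haveILetI false
set_option linter.unusedSectionVars false

namespace CfsgLib.DihPrincipal

open Subgroup

universe u

/-- A group with a dihedral Sylow 2-subgroup and a central involution has the local condition. -/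
theorem localCondition_of_central {X : Type u} [Group X] [Finite X] [Fact (Nat.Prime 2)]
    (R : Sylow 2 X) {m : ℕ} (hm : 4 ≤ m) (e : (R : Subgroup X) ≃* DihedralGroup m) {z : X}
    (hz : orderOf z = 2) (hc : z ∈ center X) : CfsgLib.Fusion.LocalCondition 2 X := by
  intro Q hQ g hg hg'
  obtain ⟨R', hR'⟩ := hQ.exists_le_sylow
  have e' : (R' : Subgroup X) ≃* DihedralGroup m := (Sylow.equiv R' R).trans e
  obtain ⟨D⟩ := CfsgLib.DihFour.exists_data R'.2 (by omega) e'
  have hh : 2 ≤ D.h := by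
    have h1 := D.card_eq
    rw [Nat.card_congr e'.toEquiv, DihedralGroup.nat_card] at h1
    omega
  have hodd : Odd (orderOf g) := by
    rwa [Nat.coprime_two_right] at hg'
  have hzn : (zpowers z).Normal := ⟨fun x hx y => by
    obtain ⟨i, rfl⟩ := mem_zpowers_iff.1 hx
    rw [mem_center_iff.1 (zpow_mem hc i) y, mul_inv_cancel_right]
    exact hx⟩
  have hzR : z ∈ (R' : Subgroup X) := by
    have h1 : IsPGroup 2 ((R' : Subgroup X) ⊔ zpowers z : Subgroup X) := by
      refine R'.2.to_sup_of_normal_right ?_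
      exact IsPGroup.of_card (n := 1) (by rw [Nat.card_zpowers, hz, pow_one])
    rw [← R'.3 h1 le_sup_left]
    exact le_sup_right (a := (R' : Subgroup X)) (mem_zpowers z)
  have hzD : z = D.z := by
    rcases D.invol_cases hzR (CfsgLib.Invol.mul_self_eq_one hz) (CfsgLib.Invol.ne_one hz) with
      h | ⟨i, hi⟩
    · exact h
    exfalso
    have h1 : D.r ^ i * D.s * D.r = D.r * (D.r ^ i * D.s) := by
      rw [← hi]; exact (mem_center_iff.1 hc D.r).symm
    rw [← mul_assoc D.r, ← zpow_one_add, add_comm, zpow_add_one, mul_assoc (D.r ^ i) D.r] at h1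
    have h2 : D.s * D.r = D.r * D.s := mul_left_cancel (by rw [← mul_assoc]; exact h1)
    have h3 : D.r⁻¹ = D.r := by rw [← D.hsr, h2, mul_inv_cancel_right]
    have h4 := orderOf_le_of_pow_eq_one (n := 2) two_pos
      (by rw [sq, ← inv_eq_iff_mul_eq_one, h3] : D.r ^ 2 = 1)
    rw [D.hr] at h4
    omega
  by_cases hk : IsKleinFour Q
  · have hzQ : z ∈ Q := by
      obtain ⟨i, -, x, hx⟩ := D.klein_in_S hR' hk
      have h1 : D.z ∈ Q.map (MulAut.conj x).toMonoidHom := by
        rw [hx]; exact subset_closure (Or.inl rfl)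
      obtain ⟨v, hv, hv'⟩ := h1
      rw [← hzD] at hv'
      have hv'' : x * v * x⁻¹ = z := hv'
      have : v = z := by
        calc v = x⁻¹ * (x * v * x⁻¹) * x := by group
          _ = z := by rw [hv'', mul_assoc, ← mem_center_iff.1 hc x, inv_mul_cancel_left]
      exact this ▸ hv
    have hz1 := CfsgLib.Invol.ne_one hz
    have key : ∀ t ∈ Q, (g * g) * t * (g * g)⁻¹ = t := by
      intro t ht
      by_cases ht1 : t = 1
      · rw [ht1, mul_one, mul_inv_cancel]
      by_cases htz : t = z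
      · rw [htz, mem_center_iff.1 hc (g * g), mul_inv_cancel_right]
      have hu : g * t * g⁻¹ ∈ Q := (mem_normalizer_iff.1 hg t).1 ht
      have hu1 : g * t * g⁻¹ ≠ 1 := fun h => ht1 (conj_eq_one_iff.1 h)
      have huz : g * t * g⁻¹ ≠ z := fun h => htz (by
        calc t = g⁻¹ * (g * t * g⁻¹) * g := by group
          _ = z := by rw [h, mul_assoc, ← mem_center_iff.1 hc g, inv_mul_cancel_left])
      by_cases hut : g * t * g⁻¹ = t
      · calc (g * g) * t * (g * g)⁻¹ = g * (g * t * g⁻¹) * g⁻¹ := by group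
          _ = t := by rw [hut, hut]
      haveI := hk
      have h1 : (⟨g * t * g⁻¹, hu⟩ : Q) = ⟨z, hzQ⟩ * ⟨t, ht⟩ :=
        IsKleinFour.eq_mul_of_ne_all (fun h => hz1 (congrArg Subtype.val h))
          (fun h => ht1 (congrArg Subtype.val h)) (fun h => htz (congrArg Subtype.val h).symm)
          (fun h => hu1 (congrArg Subtype.val h)) (fun h => huz (congrArg Subtype.val h))
          (fun h => hut (congrArg Subtype.val h))
      have h2 : g * t * g⁻¹ = z * t := congrArg Subtype.val h1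
      calc (g * g) * t * (g * g)⁻¹ = g * (g * t * g⁻¹) * g⁻¹ := by group
        _ = g * (z * t) * g⁻¹ := by rw [h2]
        _ = z * (g * t * g⁻¹) := by
          rw [← mul_assoc, mem_center_iff.1 hc g]; group
        _ = t := by rw [h2, ← mul_assoc, CfsgLib.Invol.mul_self_eq_one hz, one_mul]
    obtain ⟨c, hc'⟩ := hodd
    have hgpow : g = (g * g) ^ (c + 1) := by
      rw [← sq, ← pow_mul, show 2 * (c + 1) = orderOf g + 1 by omega, pow_succ, pow_orderOf_eq_one,
        one_mul]
    have hgg : g * g ∈ centralizer (Q : Set X) := mem_centralizer_iff.2 fun t ht =>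
      (mul_inv_eq_iff_eq_mul.1 (key t ht)).symm
    rw [hgpow]
    exact pow_mem hgg _
  · exact D.odd_centralizes e'.toMonoidHom e'.injective R'.2 hR' hk hg hodd

variable {G : Type u} [Group G]

/-- Generators of a dihedral Sylow 2-subgroup of order `2 ^ n`. -/
structure Data (P : Sylow 2 G) (σ τ : G) (n : ℕ) : Prop where
  hn : 3 ≤ n
  σ_mem : σ ∈ (P : Subgroup G)
  τ_mem : τ ∈ (P : Subgroup G)
  ordσ : orderOf σ = 2 ^ (n - 1)
  ordτ : orderOf τ = 2
  rel : τ * σ * τ⁻¹ = σ⁻¹
  cases : ∀ g ∈ (P : Subgroup G), g ∈ zpowers σ ∨ g * τ ∈ zpowers σ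
  iso : Nonempty ((P : Subgroup G) ≃* DihedralGroup (2 ^ (n - 1)))

theorem two_mul_pow {n : ℕ} (hn : 3 ≤ n) : 2 ^ (n - 1) = 2 * 2 ^ (n - 2) := by
  rw [← pow_succ', show n - 2 + 1 = n - 1 by omega]

/-- The generators given by an element of maximal order. -/
theorem exists_data [Finite G] {P : Sylow 2 G} {σ : G} {n : ℕ} (hn : 3 ≤ n)
    (hP : Nonempty ((P : Subgroup G) ≃* DihedralGroup (2 ^ (n - 1)))) (hσ : σ ∈ (P : Subgroup G))
    (hσo : orderOf σ = 2 ^ (n - 1)) : ∃ τ, Data P σ τ n := by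
  obtain ⟨e⟩ := hP
  have h4 : 4 ≤ 2 ^ (n - 1) := Nat.pow_le_pow_right two_pos (show 2 ≤ n - 1 by omega)
  obtain ⟨D⟩ := CfsgLib.DihFour.exists_data P.2 (by omega) e
  have hD : 2 * D.h = 2 ^ (n - 1) := by
    have h1 := D.card_eq
    rw [Nat.card_congr e.toEquiv, DihedralGroup.nat_card] at h1
    omega
  obtain ⟨i, hi⟩ := D.cases σ hσ
  have hσr : σ ∈ zpowers D.r := by
    rcases hi with rfl | rfl
    · exact zpow_mem (mem_zpowers _) i
    · rw [CfsgLib.Invol.orderOf_eq_two (D.refl_sq i) (D.refl_ne_one i)] at hσo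
      omega
  have hzz : zpowers σ = zpowers D.r := by
    refine eq_of_le_of_card_ge (zpowers_le.2 hσr) ?_
    rw [Nat.card_zpowers, Nat.card_zpowers, hσo, D.hr, hD]
  refine ⟨D.s, hn, hσ, D.sS, hσo, D.hs, ?_, fun g hg => ?_, ⟨e⟩⟩
  · obtain ⟨j, hj⟩ := mem_zpowers_iff.1 hσr
    rw [← hj, D.s_rpow, zpow_neg]
  · rw [hzz]
    obtain ⟨j, rfl | rfl⟩ := D.cases g hg
    · exact Or.inl (zpow_mem (mem_zpowers _) j)
    · refine Or.inr ?_
      rw [mul_assoc, D.s_sq, mul_one]
      exact zpow_mem (mem_zpowers _) j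

/-- The generators given by a generating pair. -/
theorem data_of_closure [Finite G] {P : Sylow 2 G} {σ τ : G} {n : ℕ} (hn : 3 ≤ n)
    (hσ : σ ∈ (P : Subgroup G)) (hτ : τ ∈ (P : Subgroup G)) (hσo : orderOf σ = 2 ^ (n - 1))
    (hτo : orderOf τ = 2) (hrel : τ * σ * τ⁻¹ = σ⁻¹)
    (hgen : closure ({σ, τ} : Set G) = (P : Subgroup G)) : Data P σ τ n := by
  have h4 : 4 ≤ 2 ^ (n - 1) := Nat.pow_le_pow_right two_pos (show 2 ≤ n - 1 by omega)
  have hτi := CfsgLib.Invol.inv_eq_self hτo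
  have hστ : (σ * τ) * (σ * τ) = 1 := by
    calc σ * τ * (σ * τ) = σ * (τ * σ * τ⁻¹) := by rw [hτi]; group
      _ = 1 := by rw [hrel, mul_inv_cancel]
  have hστ1 : σ * τ ≠ 1 := fun h => by
    rw [mul_eq_one_iff_eq_inv, hτi] at h
    subst h
    omega
  have hστo := CfsgLib.Invol.orderOf_eq_two hστ hστ1
  have hne : σ * τ ≠ τ := fun h => by
    have h1 : σ = 1 := mul_right_cancel (h.trans (one_mul τ).symm)
    rw [h1, orderOf_one] at hσo
    omega
  have he : (σ * τ) * τ = σ := by rw [mul_assoc, CfsgLib.Invol.mul_self_eq_one hτo, mul_one]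
  have hcl : closure ({σ * τ, τ} : Set G) = (P : Subgroup G) := by
    refine le_antisymm ((closure_le _).2 ?_) ?_
    · rintro g (rfl | rfl)
      · exact mul_mem hσ hτ
      · exact hτ
    · rw [← hgen, closure_le]
      have a1 : σ * τ ∈ closure ({σ * τ, τ} : Set G) := subset_closure (Or.inl rfl)
      have a2 : τ ∈ closure ({σ * τ, τ} : Set G) := subset_closure (Or.inr rfl)
      rintro g (rfl | rfl)
      · have h := mul_mem a1 a2; rwa [he] at h
      · exact a2
  refine ⟨hn, hσ, hτ, hσo, hτo, hrel, fun g hg => ?_, ?_⟩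
  · rw [← hcl, CfsgLib.Invol.mem_closure_pair_iff hστo hτo] at hg
    rw [he] at hg
    obtain ⟨i, rfl⟩ | ⟨i, rfl⟩ := hg
    · exact Or.inl (zpow_mem (mem_zpowers _) i)
    · refine Or.inr ?_
      have h1 : σ * τ * σ ^ i * τ = σ * (τ * σ ^ i * τ⁻¹) := by rw [hτi]; group
      rw [h1, CfsgLib.Invol.conj_zpow_of_inverts hrel]
      exact mul_mem (mem_zpowers σ) (zpow_mem (mem_zpowers _) _)
  · obtain ⟨e⟩ := CfsgLib.Invol.nonempty_dihedral_equiv hστo hτo hne
    rw [he, hσo] at e
    exact ⟨(MulEquiv.subgroupCongr hcl.symm).trans e⟩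

end CfsgLib.DihPrincipal
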