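import Cfsg.Agent.BlocksB.Cyclic.Coherence

/-!
# Integral vectors with the inner products of a dihedral block
-/

set_option autoImplicit false

namespace CfsgLib.DihPrincipal

open Finset CfsgLib.Cyclic
open scoped Classical

variable {B : Type*} [Fintype B]

/-- Integral vectors of norm less than four. -/
theorem small_norm {f : B → ℤ} {s : Finset B} (h : ∑ x ∈ s, f x * f x ≤ 3) :
    (∀ x ∈ s, f x = 0 ∨ f x = 1 ∨ f x = -1) ∧
      ((s.filter fun x => f x ≠ 0).card : ℤ) = ∑ x ∈ s, f x * f x := by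
  have h1 : ∀ x ∈ s, f x = 0 ∨ f x = 1 ∨ f x = -1 := fun x hx => by
    have h2 := (single_le_sum (f := fun y => f y * f y) (fun y _ => mul_self_nonneg _) hx).trans h
    have h3 : f x ≤ 1 := by nlinarith
    have h4 : -1 ≤ f x := by nlinarith
    omega
  refine ⟨h1, ?_⟩
  rw [← sum_filter_ne_zero (f := fun x => f x * f x) (s := s)]
  simp only [mul_self_ne_zero]
  rw [card_eq_sum_ones, Nat.cast_sum, Nat.cast_one]
  refine sum_congr rfl fun x hx => ?_
  rcases h1 x (mem_filter.1 hx).1 with e | e | e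
  · exact absurd e (mem_filter.1 hx).2
  all_goals rw [e]; rfl

theorem sum_mul_unit (f : B → ℤ) (a : B) : ∑ x, f x * unitVec a x = f a := by
  simp [unitVec]

theorem sum_mul_smul_unit (f : B → ℤ) (c : ℤ) (a : B) :
    ∑ x, f x * (c * unitVec a x) = c * f a := by
  simp [unitVec, mul_comm]

variable {ι : Type*} [Fintype ι]

/-- The vectors of the two-dimensional characters. -/
theorem exists_center (one : B) (deg : B → ℤ) (hdeg : ∀ x, 0 < deg x) (hdone : deg one = 1)
    (w : ι → B → ℤ) (hI : 0 < Fintype.card ι) (hI' : Fintype.card ι ≠ 2)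
    (hw1 : ∀ i, w i one = -1) (hww : ∀ i j, ∑ x, w i x * w j x = 2 + if i = j then 1 else 0)
    (hwd : ∀ i, ∑ x, deg x * w i x = 0) :
    ∃ (x₁ : B) (δ : ℤ) (ψ : ι → B), (δ = 1 ∨ δ = -1) ∧ x₁ ≠ one ∧ Function.Injective ψ ∧
      (∀ i, ψ i ≠ one ∧ ψ i ≠ x₁) ∧
      ∀ i x, w i x = -unitVec one x - δ * unitVec x₁ x + δ * unitVec (ψ i) x := by
  by_cases hI1 : Fintype.card ι = 1
  · obtain ⟨i₀, hi₀⟩ := Fintype.card_eq_one_iff.1 hI1
    have hsum : ∑ x ∈ univ.erase one, w i₀ x * w i₀ x = 2 := by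
      rw [sum_erase_eq_sub (mem_univ one), hww, if_pos rfl, hw1]
      norm_num
    obtain ⟨hpm, hcard⟩ := small_norm (f := w i₀) (s := univ.erase one) (by rw [hsum]; norm_num)
    rw [hsum] at hcard
    obtain ⟨a, b, hab, heq⟩ := card_eq_two.1 (show (((univ.erase one).filter fun x => w i₀ x ≠ 0)).card = 2 by
      omega)
    have ha : a ∈ (univ.erase one).filter fun x => w i₀ x ≠ 0 := by rw [heq]; simp
    have hb : b ∈ (univ.erase one).filter fun x => w i₀ x ≠ 0 := by rw [heq]; simp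
    rw [mem_filter] at ha hb
    have ha' := (hpm a ha.1).resolve_left ha.2
    have hb' := (hpm b hb.1).resolve_left hb.2
    have ha1 : a ≠ one := (mem_erase.1 ha.1).1
    have hb1 : b ≠ one := (mem_erase.1 hb.1).1
    have hout : ∀ x, x ≠ one → x ≠ a → x ≠ b → w i₀ x = 0 := fun x h1 h2 h3 => by
      by_contra h
      have : x ∈ (univ.erase one).filter fun x => w i₀ x ≠ 0 :=
        mem_filter.2 ⟨mem_erase.2 ⟨h1, mem_univ _⟩, h⟩
      rw [heq, mem_insert, mem_singleton] at this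
      exact this.elim h2 h3
    have hform : ∀ x, w i₀ x = -unitVec one x + w i₀ a * unitVec a x + w i₀ b * unitVec b x := by
      intro x
      by_cases h1 : x = one
      · subst h1; simp [unitVec, hw1, ha1.symm, hb1.symm]
      by_cases h2 : x = a
      · subst h2; simp [unitVec, h1, hab]
      by_cases h3 : x = b
      · subst h3; simp [unitVec, h1, h2]
      simp [unitVec, h1, h2, h3, hout x h1 h2 h3]
    have hd := hwd i₀
    rw [sum_congr rfl fun x _ => congrArg (deg x * ·) (hform x)] at hd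
    simp only [mul_add, sum_add_distrib, mul_neg, sum_neg_distrib, sum_mul_unit,
      sum_mul_smul_unit, hdone] at hd
    have hab' : w i₀ b = -w i₀ a := by
      have := hdeg a; have := hdeg b
      rcases ha' with e | e <;> rcases hb' with e' | e' <;> rw [e, e'] at hd ⊢ <;> omega
    refine ⟨a, -w i₀ a, fun _ => b, by rcases ha' with e | e <;> simp [e], ha1,
      fun i j _ => (hi₀ i).trans (hi₀ j).symm, fun _ => ⟨hb1, hab.symm⟩, fun i x => ?_⟩
    rw [hi₀ i, hform x, hab']
    ring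
  · obtain ⟨δ, ψ, hδ, hψ, S, hS⟩ := exists_common_vertex w deg hdeg (n := 2) (by omega) hww hwd
    have hδ2 : δ * δ = 1 := by rcases hδ with h | h <;> rw [h] <;> rfl
    obtain ⟨i₀⟩ := Fintype.card_pos_iff.1 hI
    have hψ1 : ∀ i, ψ i ≠ one := fun i h => by
      obtain ⟨j, hj⟩ := Fintype.exists_ne_of_one_lt_card (show 1 < Fintype.card ι by omega) i
      have h1 := hS i one
      have h2 := hS j one
      rw [hw1, unitVec, if_pos h.symm] at h1
      rw [hw1, unitVec, if_neg fun e => hj (hψ (e.symm.trans h.symm))] at h2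
      rcases hδ with e | e <;> rw [e] at h1 h2 <;> omega
    have hS1 : S one = -1 := by
      have h1 := hS i₀ one
      rw [hw1, unitVec, if_neg (hψ1 i₀).symm] at h1
      linarith
    have hN : ∀ i, ∑ x, S x * S x + 2 * (δ * S (ψ i)) + 1 = 3 := fun i => by
      have h := hww i i
      have hu : unitVec (ψ i) (ψ i) = 1 := if_pos rfl
      simp only [hS i, add_mul, mul_add, sum_add_distrib, if_true, sum_mul_smul_unit,
        mul_assoc, ← mul_sum, sum_unitVec_mul, hu, mul_one, hδ2] at h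
      linarith
    set k := δ * S (ψ i₀)
    have hk : ∀ i, S (ψ i) = δ * k := fun i => by
      have h1 := hN i
      have h2 := hN i₀
      rw [show k = δ * S (ψ i₀) from rfl, ← mul_assoc, hδ2, one_mul]
      rcases hδ with e | e <;> rw [e] at h1 h2 <;> omega
    set R := (univ.erase one) \ univ.image ψ with hR
    have hsub : univ.image ψ ⊆ univ.erase one := fun x hx => by
      obtain ⟨i, -, rfl⟩ := mem_image.1 hx
      exact mem_erase.2 ⟨hψ1 i, mem_univ _⟩
    have hnorm : ∑ x ∈ R, S x * S x + Fintype.card ι * (k * k) + 1 + 2 * k = 2 := by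
      have h := hN i₀
      rw [← add_sum_erase _ _ (mem_univ one), hS1, ← sum_sdiff hsub, ← hR,
        sum_image fun a _ b _ e => hψ e] at h
      simp only [hk, mul_mul_mul_comm δ k, hδ2, one_mul, sum_const, card_univ, nsmul_eq_mul,
        ← mul_assoc δ δ] at h
      linarith
    have hR0 : 0 ≤ ∑ x ∈ R, S x * S x := sum_nonneg fun x _ => mul_self_nonneg _
    have hI3 : (3 : ℤ) ≤ Fintype.card ι := by
      have : 3 ≤ Fintype.card ι := by omega
      exact_mod_cast this
    have hk0 : k = 0 ∨ k = -1 := by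
      have h1 : 3 * (k * k) + 2 * k ≤ 1 := by nlinarith
      have h2 : k ≤ 0 := by nlinarith
      have h3 : -1 ≤ k := by nlinarith
      omega
    have hout : ∀ x, x ∉ R → x ≠ one → ∃ i, ψ i = x := fun x hx h1 => by
      by_contra h
      exact hx (mem_sdiff.2 ⟨mem_erase.2 ⟨h1, mem_univ _⟩, fun h' => h (by
        obtain ⟨i, -, e⟩ := mem_image.1 h'; exact ⟨i, e⟩)⟩)
    rcases hk0 with hk0 | hk0
    · rw [hk0] at hnorm
      obtain ⟨hpm, hcard⟩ := small_norm (f := S) (s := R) (by linarith)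
      obtain ⟨a, ha⟩ := card_eq_one.1 (show (R.filter fun x => S x ≠ 0).card = 1 by omega)
      have haR : a ∈ R ∧ S a ≠ 0 := mem_filter.1 (by rw [ha]; exact mem_singleton_self a)
      have haψ : ∀ i, ψ i ≠ a := fun i h =>
        (mem_sdiff.1 haR.1).2 (mem_image.2 ⟨i, mem_univ _, h⟩)
      have ha1 : a ≠ one := (mem_erase.1 (mem_sdiff.1 haR.1).1).1
      have hsR : ∀ x, x ≠ one → x ≠ a → S x = 0 := fun x h1 h2 => by
        by_cases hx : x ∈ R
        · by_contra h
          have : x ∈ R.filter fun x => S x ≠ 0 := mem_filter.2 ⟨hx, h⟩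
          rw [ha, mem_singleton] at this
          exact h2 this
        · obtain ⟨i, rfl⟩ := hout x hx h1
          rw [hk, hk0, mul_zero]
      have hform : ∀ i x, w i x = -unitVec one x + S a * unitVec a x + δ * unitVec (ψ i) x := by
        intro i x
        rw [hS i x]
        congr 1
        by_cases h1 : x = one
        · subst h1; simp [unitVec, hS1, ha1.symm]
        by_cases h2 : x = a
        · subst h2; simp [unitVec, h1]
        simp [unitVec, h1, h2, hsR x h1 h2]
      have hd := hwd i₀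
      simp only [hform, mul_add, sum_add_distrib, mul_neg, sum_neg_distrib, sum_mul_unit,
        sum_mul_smul_unit, hdone] at hd
      have hSa : S a = -δ := by
        have := hdeg a; have := hdeg (ψ i₀)
        rcases (hpm a haR.1).resolve_left haR.2 with e | e <;> rcases hδ with e' | e' <;>
          rw [e, e'] at hd ⊢ <;> omega
      refine ⟨a, δ, ψ, hδ, ha1, hψ, fun i => ⟨hψ1 i, haψ i⟩, fun i x => ?_⟩
      rw [hform i x, hSa]
      ring
    · exfalso
      rw [hk0] at hnorm hk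
      have hcI : (Fintype.card ι : ℤ) = 3 := by linarith
      have hsR : ∀ x ∈ R, S x = 0 := fun x hx => mul_self_eq_zero.1
        ((sum_eq_zero_iff_of_nonneg fun y _ => mul_self_nonneg (S y)).1 (by linarith) x hx)
      have hd := hwd i₀
      simp only [hS i₀, mul_add, sum_add_distrib, sum_mul_smul_unit] at hd
      rw [← add_sum_erase _ _ (mem_univ one), hS1, hdone, ← sum_sdiff hsub, ← hR,
        sum_eq_zero (s := R) fun x hx => by rw [hsR x hx, mul_zero],
        sum_image fun a _ b _ e => hψ e] at hd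
      simp only [hk, ← sum_mul] at hd
      have h2 : deg (ψ i₀) + 2 ≤ ∑ i, deg (ψ i) := by
        rw [← add_sum_erase _ _ (mem_univ i₀)]
        have h3 : ((univ.erase i₀).card : ℤ) ≤ ∑ i ∈ univ.erase i₀, deg (ψ i) := by
          simpa using card_nsmul_le_sum (univ.erase i₀) (fun i => deg (ψ i)) 1
            fun i _ => hdeg (ψ i)
        rw [card_erase_of_mem (mem_univ _), card_univ] at h3
        have : Fintype.card ι = 3 := by exact_mod_cast hcI
        rw [this] at h3
        push_cast at h3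
        linarith
      rcases hδ with e | e <;> rw [e] at hd <;> linarith

/-- **The vectors of a dihedral block.** -/
theorem exists_star (one : B) (deg : B → ℤ) (hdeg : ∀ x, 0 < deg x) (hdone : deg one = 1)
    (w : ι → B → ℤ) (u : B → ℤ) (hI : 0 < Fintype.card ι) (hI' : Fintype.card ι ≠ 2)
    (hw1 : ∀ i, w i one = -1) (hu1 : u one = -1)
    (hww : ∀ i j, ∑ x, w i x * w j x = 2 + if i = j then 1 else 0)
    (huu : ∑ x, u x * u x = 4) (huw : ∀ i, ∑ x, w i x * u x = 2)
    (hwd : ∀ i, ∑ x, deg x * w i x = 0) (hud : ∑ x, deg x * u x = 0)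
    (hne : ∀ x, u x ≠ 0 ∨ ∃ i, w i x ≠ 0) :
    ∃ (x₁ x₂ x₃ : B) (δ₁ δ₂ δ₃ : ℤ) (ψ : ι → B), (δ₁ = 1 ∨ δ₁ = -1) ∧ (δ₂ = 1 ∨ δ₂ = -1) ∧
      (δ₃ = 1 ∨ δ₃ = -1) ∧ x₁ ≠ one ∧ x₂ ≠ one ∧ x₃ ≠ one ∧ x₁ ≠ x₂ ∧ x₁ ≠ x₃ ∧ x₂ ≠ x₃ ∧
      Function.Injective ψ ∧ (∀ i, ψ i ≠ one ∧ ψ i ≠ x₁ ∧ ψ i ≠ x₂ ∧ ψ i ≠ x₃) ∧
      (∀ x, x = one ∨ x = x₁ ∨ x = x₂ ∨ x = x₃ ∨ ∃ i, x = ψ i) ∧
      (∀ i x, w i x = -unitVec one x - δ₁ * unitVec x₁ x + δ₁ * unitVec (ψ i) x) ∧
      ∀ x, u x = -unitVec one x - δ₁ * unitVec x₁ x - δ₂ * unitVec x₂ x - δ₃ * unitVec x₃ x := by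
  have hsum : ∑ x ∈ univ.erase one, u x * u x = 3 := by
    rw [sum_erase_eq_sub (mem_univ one), huu, hu1]; norm_num
  obtain ⟨hpm, hcard⟩ := small_norm (f := u) (s := univ.erase one) hsum.le
  rw [hsum] at hcard
  obtain ⟨i₀⟩ := Fintype.card_pos_iff.1 hI
  have hm : ∀ a, a ≠ one → u a = 0 ∨ u a = 1 ∨ u a = -1 := fun a h =>
    hpm a (mem_erase.2 ⟨h, mem_univ _⟩)
  have hip : ∀ (x₁ : B) (δ : ℤ) (ψ : ι → B),
      (∀ i x, w i x = -unitVec one x - δ * unitVec x₁ x + δ * unitVec (ψ i) x) →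
      ∀ i, δ * u (ψ i) = 1 + δ * u x₁ := by
    intro x₁ δ ψ hw i
    have h := huw i
    simp only [hw i, add_mul, sub_mul, neg_mul, mul_assoc, sum_add_distrib, sum_sub_distrib,
      sum_neg_distrib, ← mul_sum, sum_unitVec_mul, hu1] at h
    linarith
  -- normalize the centre
  obtain ⟨x₁, δ₁, ψ, hδ, hx1, hψ, hψne, hw, ha⟩ : ∃ (x₁ : B) (δ : ℤ) (ψ : ι → B),
      (δ = 1 ∨ δ = -1) ∧ x₁ ≠ one ∧ Function.Injective ψ ∧ (∀ i, ψ i ≠ one ∧ ψ i ≠ x₁) ∧
      (∀ i x, w i x = -unitVec one x - δ * unitVec x₁ x + δ * unitVec (ψ i) x) ∧ u x₁ = -δ := by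
    obtain ⟨x₁, δ, ψ, hδ, hx1, hψ, hψne, hw⟩ := exists_center one deg hdeg hdone w hI hI' hw1 hww hwd
    by_cases ha : u x₁ = -δ
    · exact ⟨x₁, δ, ψ, hδ, hx1, hψ, hψne, hw, ha⟩
    have hb := hip x₁ δ ψ hw i₀
    have h1 := hm _ (hψne i₀).1
    have h2 := hm _ hx1
    have hx0 : u x₁ = 0 := by
      rcases hδ with e | e <;> rw [e] at ha hb <;> omega
    have hψu : ∀ i, u (ψ i) = δ := fun i => by
      have h := hip x₁ δ ψ hw i
      rw [hx0, mul_zero, add_zero] at h
      rcases hδ with e | e <;> rw [e] at h ⊢ <;> omega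
    by_cases hI1 : Fintype.card ι = 1
    · obtain ⟨j, hj⟩ := Fintype.card_eq_one_iff.1 hI1
      refine ⟨ψ j, -δ, fun _ => x₁, by rcases hδ with e | e <;> simp [e], (hψne j).1,
        fun a b _ => (hj a).trans (hj b).symm, fun _ => ⟨hx1, (hψne j).2.symm⟩, fun i x => ?_, ?_⟩
      · rw [hw i x, hj i]; ring
      · rw [hψu, neg_neg]
    · exfalso
      set s := (univ.erase one).filter fun x => u x ≠ 0 with hs
      have hsubs : univ.image ψ ⊆ s := fun x hx => by
        obtain ⟨i, -, rfl⟩ := mem_image.1 hx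
        rw [hs, mem_filter, mem_erase, hψu]
        exact ⟨⟨(hψne i).1, mem_univ _⟩, by rcases hδ with e | e <;> simp [e]⟩
      have hc3 : Fintype.card ι = 3 := by
        have := card_le_card hsubs
        rw [card_image_of_injective _ hψ, card_univ] at this
        omega
      have heq : univ.image ψ = s := eq_of_subset_of_card_le hsubs (by
        rw [card_image_of_injective _ hψ, card_univ, hc3]; omega)
      have hd := hud
      rw [← add_sum_erase _ _ (mem_univ one), hu1, hdone,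
        ← sum_filter_of_ne (p := fun x => u x ≠ 0) (fun x _ hx h => hx (by rw [h, mul_zero])),
        ← hs, ← heq, sum_image fun a _ b _ e => hψ e] at hd
      simp only [hψu, ← sum_mul] at hd
      have h3 : (3 : ℤ) ≤ ∑ i, deg (ψ i) := by
        have := card_nsmul_le_sum univ (fun i => deg (ψ i)) 1 fun i _ => hdeg (ψ i)
        rw [card_univ, hc3] at this
        simpa using this
      rcases hδ with e | e <;> rw [e] at hd <;> linarith
  have hψu : ∀ i, u (ψ i) = 0 := fun i => by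
    have h := hip x₁ δ₁ ψ hw i
    rw [ha] at h
    rcases hδ with e | e <;> rw [e] at h <;> linarith
  set s := (univ.erase one).filter fun x => u x ≠ 0 with hs
  have hx1s : x₁ ∈ s := by
    rw [hs, mem_filter, mem_erase, ha]
    exact ⟨⟨hx1, mem_univ _⟩, by rcases hδ with e | e <;> simp [e]⟩
  obtain ⟨a, b, hab, heq⟩ := card_eq_two.1 (show (s.erase x₁).card = 2 by
    rw [card_erase_of_mem hx1s]; omega)
  have ha' : a ∈ s.erase x₁ := by rw [heq]; simp
  have hb' : b ∈ s.erase x₁ := by rw [heq]; simp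
  rw [mem_erase, hs, mem_filter, mem_erase] at ha' hb'
  have hout : ∀ x, x ≠ one → x ≠ x₁ → x ≠ a → x ≠ b → u x = 0 := fun x h1 h2 h3 h4 => by
    by_contra h
    have : x ∈ s.erase x₁ := mem_erase.2 ⟨h2, mem_filter.2 ⟨mem_erase.2 ⟨h1, mem_univ _⟩, h⟩⟩
    rw [heq, mem_insert, mem_singleton] at this
    exact this.elim h3 h4
  have hψab : ∀ i, ψ i ≠ a ∧ ψ i ≠ b := fun i =>
    ⟨fun h => ha'.2.2 (h ▸ hψu i), fun h => hb'.2.2 (h ▸ hψu i)⟩
  refine ⟨x₁, a, b, δ₁, -u a, -u b, ψ, hδ, ?_, ?_, hx1, ha'.2.1.1, hb'.2.1.1, ha'.1.symm, hb'.1.symm,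
    hab, hψ, fun i => ⟨(hψne i).1, (hψne i).2, (hψab i).1, (hψab i).2⟩, fun x => ?_, hw, fun x => ?_⟩
  · rcases (hm a ha'.2.1.1).resolve_left ha'.2.2 with e | e <;> simp [e]
  · rcases (hm b hb'.2.1.1).resolve_left hb'.2.2 with e | e <;> simp [e]
  · by_contra h
    simp only [not_or, not_exists] at h
    rcases hne x with h' | ⟨i, h'⟩
    · exact h' (hout x h.1 h.2.1 h.2.2.1 h.2.2.2.1)
    · rw [hw i x] at h'
      simp [unitVec, h.1, h.2.1, h.2.2.2.2 i] at h'
  · by_cases h1 : x = one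
    · subst h1; simp [unitVec, hu1, hx1.symm, ha'.2.1.1.symm, hb'.2.1.1.symm]
    by_cases h2 : x = x₁
    · subst h2; simp [unitVec, h1, ha, ha'.1.symm, hb'.1.symm]
    by_cases h3 : x = a
    · subst h3; simp [unitVec, h1, h2, hab]
    by_cases h4 : x = b
    · subst h4; simp [unitVec, h1, h2, h3]
    simp [unitVec, h1, h2, h3, h4, hout x h1 h2 h3 h4]

end CfsgLib.DihPrincipal
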