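import Cfsg.Agent.BlocksB.DihedralPrincipal.Facts
import Cfsg.Agent.BlocksB.DihedralPrincipal.Star
import Cfsg.Agent.BlocksB.FrobeniusSylow.Structure

/-!
# The principal 2-block with a dihedral Sylow subgroup
-/

set_option autoImplicit false
set_option linter.style.haveILetI false
set_option linter.unusedSectionVars false

namespace CfsgLib.DihPrincipal

open Cfsg Finset CfsgLib.Block CfsgLib.Block.Chr CfsgLib.SL2C CfsgLib.Cyclic
open scoped ComplexConjugate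
open scoped Classical

universe u

variable {G : Type u} [Group G]

/-- The linear characters of a cyclic group with a generator. -/
theorem exists_chr [Finite G] {σ : G} {ζ : ℂ} (hζ : IsPrimitiveRoot ζ (orderOf σ)) (j : ℕ) :
    ∃ μ : Subgroup.zpowers σ →* ℂˣ,
      ∀ l : ℕ, ((μ ⟨σ ^ l, Subgroup.npow_mem_zpowers σ l⟩ : ℂˣ) : ℂ) = ζ ^ (j * l) := by
  have h0 := (orderOf_pos σ).ne'
  have hg : ∀ x : Subgroup.zpowers σ, x ∈ Subgroup.zpowers (⟨σ, Subgroup.mem_zpowers σ⟩ : Subgroup.zpowers σ) := by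
    rintro ⟨x, hx⟩
    obtain ⟨i, rfl⟩ := Subgroup.mem_zpowers_iff.1 hx
    exact Subgroup.mem_zpowers_iff.2 ⟨i, Subtype.ext (by simp)⟩
  have hd : orderOf ((hζ.isUnit h0).unit ^ j) ∣
      orderOf (⟨σ, Subgroup.mem_zpowers σ⟩ : Subgroup.zpowers σ) := by
    rw [Subgroup.orderOf_mk]
    refine orderOf_dvd_of_pow_eq_one (Units.ext ?_)
    rw [← pow_mul, mul_comm, pow_mul, Units.val_pow_eq_pow_val, Units.val_pow_eq_pow_val,
      IsUnit.unit_spec, hζ.pow_eq_one, one_pow, Units.val_one]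
  refine ⟨monoidHomOfForallMemZpowers hg hd, fun l => ?_⟩
  rw [show (⟨σ ^ l, Subgroup.npow_mem_zpowers σ l⟩ : Subgroup.zpowers σ) =
      ⟨σ, Subgroup.mem_zpowers σ⟩ ^ l from Subtype.ext (by simp), map_pow,
    monoidHomOfForallMemZpowers_apply_gen, ← pow_mul, Units.val_pow_eq_pow_val, IsUnit.unit_spec]

theorem zpowers_comm (σ : G) : ∀ a b : Subgroup.zpowers σ, a * b = b * a := by
  rintro ⟨a, ha⟩ ⟨b, hb⟩
  obtain ⟨i, rfl⟩ := Subgroup.mem_zpowers_iff.1 ha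
  obtain ⟨j, rfl⟩ := Subgroup.mem_zpowers_iff.1 hb
  exact Subtype.ext (by show σ ^ i * σ ^ j = σ ^ j * σ ^ i; rw [← zpow_add, ← zpow_add, add_comm])

theorem hom_ext [Finite G] {σ : G} {μ ν : Subgroup.zpowers σ →* ℂˣ}
    (h : (μ ⟨σ, Subgroup.mem_zpowers σ⟩ : ℂ) = (ν ⟨σ, Subgroup.mem_zpowers σ⟩ : ℂ)) : μ = ν := by
  refine MonoidHom.ext fun x => ?_
  obtain ⟨x, hx⟩ := x
  obtain ⟨i, rfl⟩ := Subgroup.mem_zpowers_iff.1 hx
  rw [show (⟨σ ^ i, hx⟩ : Subgroup.zpowers σ) = ⟨σ, Subgroup.mem_zpowers σ⟩ ^ i from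
    Subtype.ext (by simp), map_zpow, map_zpow, Units.ext h]

/-- Splitting a sum over a period symmetrically. -/
theorem sum_range_two_mul {β : Type*} [AddCommMonoid β] (f : ℕ → β) {h : ℕ} (hh : 0 < h) :
    ∑ j ∈ range (2 * h), f j =
      f 0 + f h + ∑ i : Fin (h - 1), (f (i + 1) + f (2 * h - (i + 1))) := by
  obtain ⟨t, rfl⟩ : ∃ t, h = t + 1 := ⟨h - 1, by omega⟩
  rw [show 2 * (t + 1) = (t + 1) + (t + 1) by ring, sum_range_add, sum_range_succ' f,
    sum_range_succ' (fun x => f (t + 1 + x)), add_tsub_cancel_right,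
    Fin.sum_univ_eq_sum_range (fun i => f (i + 1) + f (t + 1 + (t + 1) - (i + 1))) t,
    sum_add_distrib, ← sum_range_reflect (fun x => f (t + 1 + (x + 1))) t]
  have h1 : ∀ x ∈ range t, f (t + 1 + (t - 1 - x + 1)) = f (t + 1 + (t + 1) - (x + 1)) :=
    fun x hx => by
      rw [mem_range] at hx
      congr 1
      omega
  rw [sum_congr rfl h1, add_zero]
  abel

/-- The principal block is orthogonal at a `p`-element with a complement in its centralizer and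
at a regular element. -/
theorem orth_column [Fintype G] {p : ℕ} {M : Ideal AlgInt} [M.IsPrime] [Fintype (IrrCharacter G)]
    (hM : IsPModular p M) {u x : G} {k a : ℕ} (hk : orderOf u = p ^ k) (hu : u ≠ 1)
    (ha : (CfsgLib.SectionCount.core p u).index = p ^ a) (hx : ¬ p ∣ orderOf x) :
    ∑ χ ∈ univ.filter (· ∈ principalBlock M G), (χ : G → ℂ) x * (χ : G → ℂ) u = 0 := by
  haveI : Fintype (CfsgLib.SectionCount.core p u) := Fintype.ofFinite _
  have h0 : ∑ χ : IrrCharacter G,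
      (χ : G → ℂ) x⁻¹ * conj (CfsgLib.SectionCount.T p u χ) = 0 := by
    simp only [CfsgLib.SectionCount.T_eq_sum, map_sum, Finset.mul_sum]
    rw [Finset.sum_comm]
    refine Finset.sum_eq_zero fun v _ => ?_
    rw [column_orth, if_neg]
    intro h
    refine hx ?_
    obtain ⟨c, hc⟩ := isConj_iff.1 h
    have hord : orderOf x⁻¹ =
        orderOf (u * ((v : Subgroup.centralizer ({u} : Set G)) : G)) := by
      rw [← hc]
      exact (orderOf_injective (MulAut.conj c).toMonoidHom (MulAut.conj c).injective _).symm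
    rw [← orderOf_inv, hord,
      (show Commute u ((v : Subgroup.centralizer ({u} : Set G)) : G) from
        (Subgroup.mem_centralizer_singleton_iff.1 (v : Subgroup.centralizer ({u} : Set G)).2).symm
      ).orderOf_mul_eq_mul_orderOf_of_coprime (by
        rw [hk, Subgroup.orderOf_coe (v : Subgroup.centralizer ({u} : Set G))]
        exact (hM.1.coprime_iff_not_dvd.2
          (CfsgLib.SectionCount.not_dvd_orderOf hM.1 v.2)).pow_left k), hk]
    exact dvd_mul_of_dvd_left (dvd_pow_self p fun h' => hu (orderOf_eq_one_iff.1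
      (by rw [hk, h', pow_zero]))) _
  rw [← Finset.sum_filter_add_sum_filter_not univ (· ∈ principalBlock M G),
    Finset.sum_eq_zero (s := univ.filter fun χ => ¬χ ∈ principalBlock M G) fun χ hχ => by
      rw [CfsgLib.SectionCount.T_eq_zero hM hk ha (mem_filter.1 hχ).2, map_zero, mul_zero],
    add_zero,
    Finset.sum_congr rfl fun χ hχ => by
      rw [CfsgLib.SectionCount.T_principal hM hk (mem_filter.1 hχ).2, map_mul, map_natCast,
        mul_left_comm],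
    ← Finset.mul_sum] at h0
  have h1 := congrArg conj ((mul_eq_zero.1 h0).resolve_left (Nat.cast_ne_zero.2 Nat.card_pos.ne'))
  rw [map_zero, map_sum] at h1
  refine Eq.trans (sum_congr rfl fun χ _ => ?_) h1
  rw [map_mul, Complex.conj_conj, conj_irr, inv_inv]

variable [Fintype G] [Fact (Nat.Prime 2)] {P : Sylow 2 G} {σ τ : G} {n : ℕ}
  {M : Ideal AlgInt} [M.IsPrime] [Fintype (IrrCharacter G)]

namespace Data

variable (D : Data P σ τ n)
include D

theorem sum_vec_mul (hM : IsPModular 2 M) {μ ν : Subgroup.zpowers σ →* ℂˣ} (hμ : μ ≠ 1)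
    (hν : ν ≠ 1) :
    ∑ χ ∈ univ.filter (· ∈ principalBlock M G),
        FrobeniusSylow.vec (Subgroup.zpowers σ) χ μ * FrobeniusSylow.vec (Subgroup.zpowers σ) χ ν =
      2 + (if ν = μ then 1 else 0) + if ν = μ⁻¹ then 1 else 0 := by
  have hA : (Nat.card (Subgroup.zpowers σ) : ℂ) = 2 ^ (n - 1) := by
    rw [Nat.card_zpowers, D.ordσ]; push_cast; rfl
  have hA0 : (Nat.card (Subgroup.zpowers σ) : ℂ) ≠ 0 := Nat.cast_ne_zero.2 Nat.card_pos.ne'
  have e3 : ∀ ρ : Subgroup.zpowers σ →* ℂˣ, ρ ≠ 1 → ∑ v : Subgroup.zpowers σ, (conj (ρ v : ℂ) - 1) * ((ν v : ℂ) - 1) =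
      (Nat.card (Subgroup.zpowers σ) : ℂ) * ((if ν = ρ then 1 else 0) + 1) := by
    intro ρ hρ
    have e4 : ∀ v : Subgroup.zpowers σ, (conj (ρ v : ℂ) - 1) * ((ν v : ℂ) - 1) =
        ((ρ⁻¹ * ν) v : ℂ) - ((ρ⁻¹) v : ℂ) - (ν v : ℂ) + 1 := fun v => by
      rw [MonoidHom.mul_apply, Units.val_mul, ← conj_char]
      ring
    have i1 : ρ⁻¹ * ν = 1 ↔ ν = ρ := (inv_mul_eq_one (G := Subgroup.zpowers σ →* ℂˣ)).trans eq_comm
    simp only [e4, sum_add_distrib, sum_sub_distrib, sum_char]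
    rw [if_neg (fun h => hρ ((inv_eq_one (α := Subgroup.zpowers σ →* ℂˣ)).1 h)), if_neg hν, sum_const, card_univ,
      nsmul_eq_mul, mul_one, Nat.card_eq_fintype_card]
    by_cases hh : ν = ρ
    · rw [if_pos hh, if_pos (i1.2 hh)]; ring
    · rw [if_neg hh, if_neg fun h => hh (i1.1 h)]; ring
  have e1 : ∀ χ : IrrCharacter G, (Nat.card (Subgroup.zpowers σ) : ℂ) * Nat.card (Subgroup.zpowers σ) *
      ((FrobeniusSylow.vec (Subgroup.zpowers σ) χ μ : ℂ) * (FrobeniusSylow.vec (Subgroup.zpowers σ) χ ν : ℂ)) =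
      ∑ u : Subgroup.zpowers σ, ∑ v : Subgroup.zpowers σ, (conj (μ u : ℂ) - 1) * ((ν v : ℂ) - 1) *
        ((χ : G → ℂ) (u : G) * conj ((χ : G → ℂ) (v : G))) := by
    intro χ
    have h2 := congrArg conj (FrobeniusSylow.card_mul_vec (Subgroup.zpowers σ) χ ν)
    rw [map_mul, map_natCast, map_intCast, map_sum] at h2
    rw [show (Nat.card (Subgroup.zpowers σ) : ℂ) * Nat.card (Subgroup.zpowers σ) *
        ((FrobeniusSylow.vec (Subgroup.zpowers σ) χ μ : ℂ) * (FrobeniusSylow.vec (Subgroup.zpowers σ) χ ν : ℂ)) =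
      ((Nat.card (Subgroup.zpowers σ) : ℂ) * FrobeniusSylow.vec (Subgroup.zpowers σ) χ μ) * ((Nat.card (Subgroup.zpowers σ) : ℂ) * FrobeniusSylow.vec (Subgroup.zpowers σ) χ ν)
        by ring,
      FrobeniusSylow.card_mul_vec (Subgroup.zpowers σ) χ μ, h2, sum_mul_sum]
    refine sum_congr rfl fun u _ => sum_congr rfl fun v _ => ?_
    rw [map_mul, map_sub, map_one, Complex.conj_conj]
    ring
  have e2 : ∀ u v : Subgroup.zpowers σ, (conj (μ u : ℂ) - 1) * ((ν v : ℂ) - 1) *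
      ∑ χ ∈ univ.filter (· ∈ principalBlock M G), (χ : G → ℂ) (u : G) * conj ((χ : G → ℂ) (v : G)) =
      (conj (μ u : ℂ) - 1) * ((ν v : ℂ) - 1) *
        ((Nat.card (Subgroup.zpowers σ) : ℂ) * ((if u = v then 1 else 0) + if u = v⁻¹ then 1 else 0)) := by
    intro u v
    by_cases hu : u = 1
    · subst hu; simp
    by_cases hv : v = 1
    · subst hv; simp
    rw [D.gram hM u.2 v.2 (fun h => hu (Subtype.ext h)) (fun h => hv (Subtype.ext h)), hA]
    simp only [← Subtype.val_inj, InvMemClass.coe_inv]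
  have key : (Nat.card (Subgroup.zpowers σ) : ℂ) * Nat.card (Subgroup.zpowers σ) *
      ∑ χ ∈ univ.filter (· ∈ principalBlock M G),
        (FrobeniusSylow.vec (Subgroup.zpowers σ) χ μ : ℂ) * (FrobeniusSylow.vec (Subgroup.zpowers σ) χ ν : ℂ) =
      (Nat.card (Subgroup.zpowers σ) : ℂ) * Nat.card (Subgroup.zpowers σ) *
        (2 + (if ν = μ then 1 else 0) + if ν = μ⁻¹ then 1 else 0) := by
    rw [mul_sum, sum_congr rfl fun χ _ => e1 χ, sum_comm, sum_congr rfl fun u _ => sum_comm]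
    simp only [← mul_sum]
    rw [sum_congr rfl fun u _ => sum_congr rfl fun v _ => e2 u v, sum_comm]
    simp only [mul_add, mul_ite, mul_one, mul_zero, sum_add_distrib, sum_ite_eq', mem_univ, if_true]
    have hinv : ∀ v : Subgroup.zpowers σ, conj (μ v⁻¹ : ℂ) = conj ((μ⁻¹) v : ℂ) := fun v => by
      rw [MonoidHom.inv_apply, map_inv]
    simp only [hinv, ← sum_mul, e3 μ hμ,
      e3 μ⁻¹ fun h => hμ ((inv_eq_one (α := Subgroup.zpowers σ →* ℂˣ)).1 h)]
    split_ifs <;> ring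
  have h := mul_left_cancel₀ (mul_ne_zero hA0 hA0) key
  split_ifs at h ⊢ <;> exact_mod_cast h

theorem sum_vec_reg (hM : IsPModular 2 M) {μ : Subgroup.zpowers σ →* ℂˣ} {x : G}
    (hx : ¬ 2 ∣ orderOf x) :
    ∑ χ ∈ univ.filter (· ∈ principalBlock M G),
      (χ : G → ℂ) x * (FrobeniusSylow.vec (Subgroup.zpowers σ) χ μ : ℂ) = 0 := by
  refine (mul_eq_zero.1 (?_ : (Nat.card (Subgroup.zpowers σ) : ℂ) *
    ∑ χ ∈ univ.filter (· ∈ principalBlock M G),
      (χ : G → ℂ) x * (FrobeniusSylow.vec (Subgroup.zpowers σ) χ μ : ℂ) = 0)).resolve_left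
    (Nat.cast_ne_zero.2 Nat.card_pos.ne')
  rw [mul_sum]
  simp only [mul_left_comm (Nat.card (Subgroup.zpowers σ) : ℂ), FrobeniusSylow.card_mul_vec, mul_sum]
  rw [sum_comm]
  refine sum_eq_zero fun u _ => ?_
  by_cases hu : u = 1
  · subst hu; simp
  have hu' : (u : G) ≠ 1 := fun h => hu (Subtype.ext h)
  obtain ⟨k, hk⟩ := D.exists_orderOf u.2
  obtain ⟨a, ha⟩ : ∃ a, (CfsgLib.SectionCount.core 2 (u : G)).index = 2 ^ a := by
    by_cases hz : (u : G) = σ ^ 2 ^ (n - 2)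
    · exact ⟨n, by rw [hz]; exact D.index_core_z⟩
    · exact ⟨_, D.index_core_rot u.2 hu' hz⟩
  have hcol : ∑ χ ∈ univ.filter (· ∈ principalBlock M G), (χ : G → ℂ) x * (χ : G → ℂ) (u : G) = 0 :=
    orth_column hM hk hu' ha hx
  simp only [← mul_assoc, ← sum_mul, hcol, zero_mul]

/-- **The table of the principal block.** -/
theorem exists_table (hM : IsPModular 2 M) {ζ : ℂ} (hζ : IsPrimitiveRoot ζ (2 ^ (n - 1))) :
    ∃ (χ₁ χ₂ χ₃ : IrrCharacter G) (χ' : Fin (2 ^ (n - 2) - 1) → IrrCharacter G) (δ₁ δ₂ δ₃ : ℤ),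
      (δ₁ = 1 ∨ δ₁ = -1) ∧ (δ₂ = 1 ∨ δ₂ = -1) ∧ (δ₃ = 1 ∨ δ₃ = -1) ∧ Function.Injective χ' ∧
      (χ₁ : G → ℂ) ≠ (fun _ => 1) ∧ (χ₂ : G → ℂ) ≠ (fun _ => 1) ∧ (χ₃ : G → ℂ) ≠ (fun _ => 1) ∧
      χ₁ ≠ χ₂ ∧ χ₁ ≠ χ₃ ∧ χ₂ ≠ χ₃ ∧
      (∀ j, χ' j ≠ χ₁ ∧ χ' j ≠ χ₂ ∧ χ' j ≠ χ₃ ∧ (χ' j : G → ℂ) ≠ (fun _ => 1)) ∧
      principalBlock M G = {χ : IrrCharacter G |
        (χ : G → ℂ) = (fun _ => 1) ∨ χ = χ₁ ∨ χ = χ₂ ∨ χ = χ₃ ∨ ∃ j, χ = χ' j} ∧
      (∀ l : ℕ, 0 < l → l < 2 ^ (n - 1) → (χ₁ : G → ℂ) (σ ^ l) = δ₁ ∧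
        (χ₂ : G → ℂ) (σ ^ l) = δ₂ * (-1) ^ (l + 1) ∧ (χ₃ : G → ℂ) (σ ^ l) = δ₃ * (-1) ^ (l + 1) ∧
        ∀ j : Fin (2 ^ (n - 2) - 1), (χ' j : G → ℂ) (σ ^ l) =
          δ₁ * (ζ ^ (((j : ℕ) + 1) * l) + (ζ ^ (((j : ℕ) + 1) * l))⁻¹)) ∧
      (∀ ρ : G, Odd (orderOf ρ) → ∀ j : Fin (2 ^ (n - 2) - 1),
        1 + δ₁ * (χ₁ : G → ℂ) ρ = -δ₂ * (χ₂ : G → ℂ) ρ - δ₃ * (χ₃ : G → ℂ) ρ ∧
        1 + δ₁ * (χ₁ : G → ℂ) ρ = δ₁ * (χ' j : G → ℂ) ρ) ∧
      ∀ f : IrrCharacter G → ℂ, ∑ χ ∈ univ.filter (· ∈ principalBlock M G), f χ =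
        f (oneIrr G) + f χ₁ + f χ₂ + f χ₃ + ∑ j, f (χ' j) := by
  have hq : 2 ^ (n - 1) = 2 * 2 ^ (n - 2) := two_mul_pow D.hn
  have hh2 := D.two_le_half
  have hζσ : IsPrimitiveRoot ζ (orderOf σ) := by rwa [D.ordσ]
  have hζ0 : ζ ≠ 0 := hζ.ne_zero (by positivity)
  choose μ hμ using fun j : ℕ => exists_chr hζσ j
  have hμσ : ∀ j, (μ j ⟨σ, Subgroup.mem_zpowers σ⟩ : ℂ) = ζ ^ j := fun j => by
    have := hμ j 1
    simpa using this
  have hinj : ∀ i j, i < 2 ^ (n - 1) → j < 2 ^ (n - 1) → μ i = μ j → i = j := fun i j hi hj h =>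
    hζ.pow_inj hi hj (by rw [← hμσ i, ← hμσ j, h])
  have hμ0 : μ 0 = 1 := hom_ext (by rw [hμσ]; simp)
  have hne : ∀ j, 0 < j → j < 2 ^ (n - 1) → μ j ≠ 1 := fun j h1 h2 h =>
    h1.ne' (hinj j 0 h2 (by positivity) (h.trans hμ0.symm))
  have hinv : ∀ j, j ≤ 2 ^ (n - 1) → μ (2 ^ (n - 1) - j) = (μ j)⁻¹ := fun j hj => hom_ext (by
    rw [hμσ, MonoidHom.inv_apply, Units.val_inv_eq_inv_val, hμσ]
    refine eq_inv_of_mul_eq_one_left ?_
    rw [← pow_add, Nat.sub_add_cancel hj, hζ.pow_eq_one])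
  have hpowh : ζ ^ 2 ^ (n - 2) = -1 := by
    have h1 : ζ ^ 2 ^ (n - 2) * ζ ^ 2 ^ (n - 2) = 1 := by
      rw [← pow_add, ← two_mul, ← hq, hζ.pow_eq_one]
    exact (mul_self_eq_one_iff.1 h1).resolve_left (hζ.pow_ne_one_of_pos_of_lt (by omega) (by omega))
  have hsub : ∀ f : IrrCharacter G → ℂ, ∑ χ ∈ univ.filter (· ∈ principalBlock M G), f χ =
      ∑ x : principalBlock M G, f x.1 := fun f =>
    sum_subtype (univ.filter (· ∈ principalBlock M G)) (p := (· ∈ principalBlock M G)) (by simp) f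
  have hsubZ : ∀ f : IrrCharacter G → ℤ, ∑ χ ∈ univ.filter (· ∈ principalBlock M G), f χ =
      ∑ x : principalBlock M G, f x.1 := fun f =>
    sum_subtype (univ.filter (· ∈ principalBlock M G)) (p := (· ∈ principalBlock M G)) (by simp) f
  let d : (Subgroup.zpowers σ →* ℂˣ) → principalBlock M G → ℤ := fun ν x =>
    FrobeniusSylow.vec (Subgroup.zpowers σ) x.1 ν
  have hgram : ∀ {a b : Subgroup.zpowers σ →* ℂˣ}, a ≠ 1 → b ≠ 1 → ∑ x, d a x * d b x =
      2 + (if b = a then 1 else 0) + if b = a⁻¹ then 1 else 0 := fun {a b} ha hb => by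
    rw [← D.sum_vec_mul hM ha hb, hsubZ]
  have hreg : ∀ (a : Subgroup.zpowers σ →* ℂˣ) {x : G}, ¬ 2 ∣ orderOf x →
      ∑ z : principalBlock M G, ((z : IrrCharacter G) : G → ℂ) x * (d a z : ℂ) = 0 := fun a x hx => by
    rw [← D.sum_vec_reg hM (μ := a) hx, hsub]
  have hsymm : ∀ {a : Subgroup.zpowers σ →* ℂˣ}, a ≠ 1 → ∀ x, d a⁻¹ x = d a x := by
    intro a ha x
    have ha' : a⁻¹ ≠ 1 := fun h => ha ((inv_eq_one (α := Subgroup.zpowers σ →* ℂˣ)).1 h)
    have h1 := hgram ha' ha'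
    have h2 := hgram ha' ha
    have h3 := hgram ha ha
    have hii : (a⁻¹)⁻¹ = a := MonoidHom.ext fun v => by simp
    rw [hii] at h1 h2
    simp only [if_true, eq_comm (a := a⁻¹) (b := a)] at h1 h2 h3
    have h4 : ∑ z, (d a⁻¹ z - d a z) * (d a⁻¹ z - d a z) = 0 := by
      simp only [sub_mul, mul_sub, sum_sub_distrib, mul_comm (d a _) (d a⁻¹ _)]
      split_ifs at h1 h2 h3 <;> omega
    exact sub_eq_zero.1 (mul_self_eq_zero.1
      ((sum_eq_zero_iff_of_nonneg fun _ _ => mul_self_nonneg _).1 h4 x (mem_univ x)))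
  -- the trivial character
  have hone : oneIrr G ∈ principalBlock M G := oneIrr_mem_principalBlock
  let one : principalBlock M G := ⟨oneIrr G, hone⟩
  have hd1 : ∀ {a : Subgroup.zpowers σ →* ℂˣ}, a ≠ 1 → d a one = -1 := by
    intro a ha
    have h := FrobeniusSylow.card_mul_vec (Subgroup.zpowers σ) (oneIrr G) a
    simp only [oneIrr_apply, one_mul, sum_sub_distrib, sum_const, card_univ, nsmul_eq_mul, mul_one,
      ← map_sum, sum_char, if_neg ha, map_zero, zero_sub, ← Nat.card_eq_fintype_card] at h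
    have h2 : (Nat.card (Subgroup.zpowers σ) : ℂ) * (d a one : ℂ) =
        (Nat.card (Subgroup.zpowers σ) : ℂ) * ((-1 : ℤ) : ℂ) := by
      show (Nat.card (Subgroup.zpowers σ) : ℂ) *
        (FrobeniusSylow.vec (Subgroup.zpowers σ) (oneIrr G) a : ℂ) = _
      rw [h]; push_cast; ring
    exact_mod_cast mul_left_cancel₀ (Nat.cast_ne_zero.2 Nat.card_pos.ne') h2
  let w : Fin (2 ^ (n - 2) - 1) → principalBlock M G → ℤ := fun i => d (μ (i + 1))
  let u : principalBlock M G → ℤ := d (μ (2 ^ (n - 2)))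
  have hwne : ∀ i : Fin (2 ^ (n - 2) - 1), μ (i + 1) ≠ 1 := fun i => hne _ (by omega) (by omega)
  have hune : μ (2 ^ (n - 2)) ≠ 1 := hne _ (by omega) (by omega)
  have hww : ∀ i j, ∑ x, w i x * w j x = 2 + if i = j then 1 else 0 := fun i j => by
    rw [hgram (hwne i) (hwne j), ← hinv _ (by omega),
      if_neg (fun h : μ ((j : ℕ) + 1) = μ (2 ^ (n - 1) - ((i : ℕ) + 1)) => by
        have := hinj _ _ (by omega) (by omega) h; omega), add_zero]
    by_cases hij : i = j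
    · subst hij; rw [if_pos rfl, if_pos rfl]
    · rw [if_neg hij, if_neg fun h => hij (Fin.ext (by
        have := hinj _ _ (by omega) (by omega) h; omega))]
  have huu : ∑ x, u x * u x = 4 := by
    rw [hgram hune hune, ← hinv _ (by omega),
      show 2 ^ (n - 1) - 2 ^ (n - 2) = 2 ^ (n - 2) by omega, if_pos rfl]
    rfl
  have huw : ∀ i, ∑ x, w i x * u x = 2 := fun i => by
    rw [hgram (hwne i) hune, ← hinv _ (by omega),
      if_neg (fun h : μ (2 ^ (n - 2)) = μ ((i : ℕ) + 1) => by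
        have := hinj _ _ (by omega) (by omega) h; omega),
      if_neg (fun h : μ (2 ^ (n - 2)) = μ (2 ^ (n - 1) - ((i : ℕ) + 1)) => by
        have := hinj _ _ (by omega) (by omega) h; omega)]
    rfl
  have hdeg : ∀ a, ∑ z : principalBlock M G,
      (charDegree ((z : IrrCharacter G) : G → ℂ) : ℤ) * d a z = 0 := fun a => by
    have h := hreg a (x := 1) (by rw [orderOf_one]; exact hM.1.not_dvd_one)
    simp only [(irr_one _).1] at h
    exact_mod_cast h
  -- the expansion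
  have hsurj : ∀ ν : Subgroup.zpowers σ →* ℂˣ, ∃ j < 2 ^ (n - 1), μ j = ν := by
    intro ν
    haveI : NeZero (2 ^ (n - 1)) := ⟨by positivity⟩
    obtain ⟨j, hj, he⟩ := hζ.eq_pow_of_pow_eq_one
      (ξ := (ν ⟨σ, Subgroup.mem_zpowers σ⟩ : ℂ)) (by
        rw [← Units.val_pow_eq_pow_val, ← map_pow]
        have : (⟨σ, Subgroup.mem_zpowers σ⟩ : Subgroup.zpowers σ) ^ 2 ^ (n - 1) = 1 :=
          Subtype.ext (by simp [← D.ordσ, pow_orderOf_eq_one])
        rw [this, map_one, Units.val_one])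
    exact ⟨j, hj, hom_ext (by rw [hμσ, he])⟩
  have hval : ∀ (z : principalBlock M G) (l : ℕ), 0 < l → l < 2 ^ (n - 1) →
      ((z : IrrCharacter G) : G → ℂ) (σ ^ l) =
        (u z : ℂ) * (-1) ^ l + ∑ i : Fin (2 ^ (n - 2) - 1),
          (w i z : ℂ) * (ζ ^ (((i : ℕ) + 1) * l) + (ζ ^ (((i : ℕ) + 1) * l))⁻¹) := by
    intro z l hl0 hl
    have hl1 : (⟨σ ^ l, Subgroup.npow_mem_zpowers σ l⟩ : Subgroup.zpowers σ) ≠ 1 := fun h => by
      have := Nat.le_of_dvd hl0 (orderOf_dvd_of_pow_eq_one (congrArg Subtype.val h))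
      rw [D.ordσ] at this
      omega
    rw [show ((z : IrrCharacter G) : G → ℂ) (σ ^ l) = _ from
      FrobeniusSylow.apply_eq_sum_vec (Subgroup.zpowers σ) (zpowers_comm σ) z.1 hl1]
    have hbij : ∑ ν : Subgroup.zpowers σ →* ℂˣ,
        (FrobeniusSylow.vec (Subgroup.zpowers σ) z.1 ν : ℂ) *
          (ν ⟨σ ^ l, Subgroup.npow_mem_zpowers σ l⟩ : ℂ) =
        ∑ j ∈ range (2 * 2 ^ (n - 2)), (d (μ j) z : ℂ) * ζ ^ (j * l) := by
      symm
      refine sum_bij (fun j _ => μ j) (fun _ _ => mem_univ _) (fun i hi j hj h => ?_)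
        (fun ν _ => ?_) fun j _ => by rw [hμ]
      · rw [mem_range, ← hq] at hi hj; exact hinj i j hi hj h
      · obtain ⟨j, hj, he⟩ := hsurj ν
        exact ⟨j, mem_range.2 (by rw [← hq]; exact hj), he⟩
    rw [hbij, sum_range_two_mul _ (by omega), hμ0,
      show d 1 z = 0 from FrobeniusSylow.vec_one _ _, Int.cast_zero, zero_mul, zero_add,
      pow_mul ζ, hpowh]
    refine congrArg _ (sum_congr rfl fun i _ => ?_)
    have h1 : μ (2 * 2 ^ (n - 2) - ((i : ℕ) + 1)) = (μ ((i : ℕ) + 1))⁻¹ := by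
      rw [← hq, hinv _ (by omega)]
    have h2 : ζ ^ ((2 * 2 ^ (n - 2) - ((i : ℕ) + 1)) * l) = (ζ ^ (((i : ℕ) + 1) * l))⁻¹ := by
      refine eq_inv_of_mul_eq_one_left ?_
      rw [← pow_add, ← add_mul, ← hq, Nat.sub_add_cancel (by omega), pow_mul, hζ.pow_eq_one, one_pow]
    rw [h1, hsymm (hwne i), h2, mul_add]
  have hpairs : ∀ l : ℕ, 0 < l → l < 2 ^ (n - 1) → ∑ i : Fin (2 ^ (n - 2) - 1),
      (ζ ^ (((i : ℕ) + 1) * l) + (ζ ^ (((i : ℕ) + 1) * l))⁻¹) = -1 - (-1) ^ l := by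
    intro l hl0 hl
    have h1 : ∑ j ∈ range (2 * 2 ^ (n - 2)), ζ ^ (j * l) = 0 := by
      have hx : ζ ^ l ≠ 1 := hζ.pow_ne_one_of_pos_of_lt hl0.ne' hl
      rw [sum_congr rfl fun j _ => show ζ ^ (j * l) = (ζ ^ l) ^ j by rw [← pow_mul, mul_comm],
        geom_sum_eq hx, ← hq, ← pow_mul, mul_comm, pow_mul, hζ.pow_eq_one, one_pow, sub_self,
        zero_div]
    rw [sum_range_two_mul _ (by omega), zero_mul, pow_zero, pow_mul ζ, hpowh] at h1
    have h2 : ∀ i : Fin (2 ^ (n - 2) - 1), (ζ ^ (((i : ℕ) + 1) * l))⁻¹ =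
        ζ ^ ((2 * 2 ^ (n - 2) - ((i : ℕ) + 1)) * l) := fun i => (eq_inv_of_mul_eq_one_left (by
      rw [← pow_add, ← add_mul, ← hq, Nat.sub_add_cancel (by omega), pow_mul, hζ.pow_eq_one,
        one_pow])).symm
    simp only [h2]
    linear_combination h1
  -- the combinatorics
  have hcardI : Fintype.card (Fin (2 ^ (n - 2) - 1)) ≠ 2 := by
    rw [Fintype.card_fin]
    have := D.hn
    intro h
    have h3 : 2 ∣ 2 ^ (n - 2) := dvd_pow_self 2 (by omega)
    omega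
  have hneB : ∀ z, u z ≠ 0 ∨ ∃ i, w i z ≠ 0 := by
    intro z
    by_contra h
    simp only [not_or, not_exists, not_not] at h
    apply D.apply_z_ne_zero hM z.2
    rw [hval z _ (by omega) (by omega), h.1]
    simp [h.2]
  obtain ⟨x₁, x₂, x₃, δ₁, δ₂, δ₃, ψ, hδ₁, hδ₂, hδ₃, h11, h21, h31, h12, h13, h23, hψ, hψne, hcov,
      hw, hu⟩ :=
    exists_star one (fun z : principalBlock M G => (charDegree ((z : IrrCharacter G) : G → ℂ) : ℤ))
      (fun z => Int.natCast_pos.2 (irr_one z.1).2)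
      (by
        have h := (irr_one (oneIrr G)).1
        rw [oneIrr_apply] at h
        exact_mod_cast h.symm)
      w u (by rw [Fintype.card_fin]; omega) hcardI (fun i => hd1 (hwne i)) (hd1 hune)
      (fun i j => by rw [hww i j]; congr) huu huw
      (fun i => hdeg _) (hdeg _) hneB
  have hcoe : ∀ z : principalBlock M G, ((z : IrrCharacter G) : G → ℂ) = (fun _ => 1) → z = one :=
    fun z h => Subtype.ext (Subtype.ext (by rw [h]; exact funext fun g => (oneIrr_apply g).symm))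
  refine ⟨x₁.1, x₂.1, x₃.1, fun j => (ψ j).1, δ₁, δ₂, δ₃, hδ₁, hδ₂, hδ₃,
    Subtype.val_injective.comp hψ, fun h => h11 (hcoe _ h), fun h => h21 (hcoe _ h),
    fun h => h31 (hcoe _ h), fun h => h12 (Subtype.ext h), fun h => h13 (Subtype.ext h),
    fun h => h23 (Subtype.ext h), fun j => ⟨fun h => (hψne j).2.1 (Subtype.ext h),
      fun h => (hψne j).2.2.1 (Subtype.ext h), fun h => (hψne j).2.2.2 (Subtype.ext h),
      fun h => (hψne j).1 (hcoe _ h)⟩, ?_, fun l hl0 hl => ?_, fun ρ hρ j => ?_, fun f => ?_⟩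
  · ext χ
    refine ⟨fun h => ?_, fun h => ?_⟩
    · rcases hcov ⟨χ, h⟩ with e | e | e | e | ⟨j, e⟩
      · exact Or.inl (by rw [show χ = oneIrr G from congrArg Subtype.val e]; exact funext oneIrr_apply)
      · exact Or.inr (Or.inl (congrArg Subtype.val e))
      · exact Or.inr (Or.inr (Or.inl (congrArg Subtype.val e)))
      · exact Or.inr (Or.inr (Or.inr (Or.inl (congrArg Subtype.val e))))
      · exact Or.inr (Or.inr (Or.inr (Or.inr ⟨j, congrArg Subtype.val e⟩)))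
    · rcases h with h | rfl | rfl | rfl | ⟨j, rfl⟩
      · rw [show χ = oneIrr G from Subtype.ext (h.trans (funext oneIrr_apply).symm)]
        exact hone
      exacts [x₁.2, x₂.2, x₃.2, (ψ j).2]
  · refine ⟨?_, ?_, ?_, fun j => ?_⟩
    · rw [hval x₁ l hl0 hl, hu x₁,
        sum_congr rfl fun i _ => by rw [hw i x₁]]
      have e : ∀ i, -unitVec one x₁ - δ₁ * unitVec x₁ x₁ + δ₁ * unitVec (ψ i) x₁ = -δ₁ := fun i => by
        simp [unitVec, h11, (hψne i).2.1.symm]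
      simp only [e, ← mul_sum, hpairs l hl0 hl]
      simp [unitVec, h11, h12, h13]
      ring
    · rw [hval x₂ l hl0 hl, hu x₂, sum_congr rfl fun i _ => by rw [hw i x₂]]
      simp [unitVec, h21, h12.symm, h23, (fun i => (hψne i).2.2.1.symm : ∀ i, x₂ ≠ ψ i), pow_succ]
    · rw [hval x₃ l hl0 hl, hu x₃, sum_congr rfl fun i _ => by rw [hw i x₃]]
      simp [unitVec, h31, h13.symm, h23.symm, (fun i => (hψne i).2.2.2.symm : ∀ i, x₃ ≠ ψ i), pow_succ]
    · rw [hval (ψ j) l hl0 hl, hu (ψ j), sum_congr rfl fun i _ => by rw [hw i (ψ j)]]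
      simp [unitVec, (hψne j).1, (hψne j).2.1, (hψne j).2.2.1, (hψne j).2.2.2, hψ.eq_iff, eq_comm (a := j)]
  · have hρ2 : ¬ 2 ∣ orderOf ρ := fun h => Nat.not_even_iff_odd.2 hρ (even_iff_two_dvd.2 h)
    have hS : ∀ a : principalBlock M G, ∑ z : principalBlock M G,
        ((z : IrrCharacter G) : G → ℂ) ρ * (unitVec a z : ℂ) = ((a : IrrCharacter G) : G → ℂ) ρ := fun a => by
      simp [unitVec]
    have h1 : ∑ z : principalBlock M G, ((z : IrrCharacter G) : G → ℂ) ρ * (u z : ℂ) = 0 :=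
      hreg (μ (2 ^ (n - 2))) hρ2
    have h2 : ∑ z : principalBlock M G, ((z : IrrCharacter G) : G → ℂ) ρ * (w j z : ℂ) = 0 :=
      hreg (μ ((j : ℕ) + 1)) hρ2
    simp only [hu, hw j, Int.cast_add, Int.cast_sub, Int.cast_neg, Int.cast_mul] at h1 h2
    simp only [mul_add, mul_sub, mul_neg, sum_add_distrib, sum_sub_distrib, sum_neg_distrib,
      mul_left_comm _ (_ : ℂ) (unitVec _ _ : ℂ), ← mul_sum, hS] at h1 h2
    have h0 : ((one : IrrCharacter G) : G → ℂ) ρ = 1 := oneIrr_apply ρ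
    rw [h0] at h1 h2
    constructor
    · linear_combination -h1
    · linear_combination -h2
  · rw [hsub]
    have hu5 : (univ : Finset (principalBlock M G)) =
        insert one (insert x₁ (insert x₂ (insert x₃ (univ.image ψ)))) := by
      ext z
      simp only [mem_univ, mem_insert, mem_image, true_and, true_iff]
      rcases hcov z with e | e | e | e | ⟨i, e⟩
      exacts [Or.inl e, Or.inr (Or.inl e), Or.inr (Or.inr (Or.inl e)),
        Or.inr (Or.inr (Or.inr (Or.inl e))), Or.inr (Or.inr (Or.inr (Or.inr ⟨i, e.symm⟩)))]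
    rw [hu5, sum_insert (by simp [h11.symm, h21.symm, h31.symm, fun i => (hψne i).1]),
      sum_insert (by simp [h12, h13, fun i => (hψne i).2.1]),
      sum_insert (by simp [h23, fun i => (hψne i).2.2.1]),
      sum_insert (by simp [fun i => (hψne i).2.2.2]), sum_image fun a _ b _ e => hψ e]
    ring

end Data

end CfsgLib.DihPrincipal
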