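import Cfsg.Agent.BlocksB.DihedralPrincipal.Facts

/-!
# Counting pairs of involutions with product in a section
-/

set_option autoImplicit false
set_option linter.style.haveILetI false
set_option linter.unusedSectionVars false

namespace CfsgLib.DihPrincipal

open Cfsg Finset CfsgLib.Block CfsgLib.Block.Chr CfsgLib.SectionCount
open scoped Classical

universe u

/-- The primary and the regular part, as powers. -/
theorem exists_parts {G : Type u} [Group G] [Finite G] {p : ℕ} (hp : p.Prime) (g : G) :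
    ∃ y v : G, y ∈ Subgroup.zpowers g ∧ v ∈ Subgroup.zpowers g ∧ y * v = g ∧
      (∃ e, y ^ p ^ e = 1) ∧ ¬ p ∣ orderOf v := by
  obtain ⟨e, m, hm, hn⟩ := Nat.exists_eq_pow_mul_and_not_dvd (orderOf_pos g).ne' p hp.ne_one
  obtain ⟨a, b, hab⟩ : IsCoprime (m : ℤ) ((p ^ e : ℕ) : ℤ) := by
    rw [Nat.isCoprime_iff_coprime]
    exact ((hp.coprime_iff_not_dvd.2 hm).pow_left e).symm
  have hz : g ^ ((p ^ e : ℕ) * m : ℤ) = 1 := by
    rw [← Nat.cast_mul, ← hn, zpow_natCast, pow_orderOf_eq_one]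
  refine ⟨g ^ (a * (m : ℤ)), g ^ (b * ((p ^ e : ℕ) : ℤ)), ⟨_, rfl⟩, ⟨_, rfl⟩, ?_, ⟨e, ?_⟩, fun h => ?_⟩
  · rw [← zpow_add, hab, zpow_one]
  · rw [← zpow_natCast, ← zpow_mul, show a * (m : ℤ) * ((p ^ e : ℕ) : ℤ) =
      ((p ^ e : ℕ) * m : ℤ) * a by ring, zpow_mul, hz, one_zpow]
  · refine hm (h.trans (orderOf_dvd_of_pow_eq_one ?_))
    rw [← zpow_natCast, ← zpow_mul, show b * ((p ^ e : ℕ) : ℤ) * (m : ℤ) =
      ((p ^ e : ℕ) * m : ℤ) * b by ring, zpow_mul, hz, one_zpow]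

variable {G : Type u} [Group G] [Fintype G] [Fact (Nat.Prime 2)] {P : Sylow 2 G} {σ τ : G} {n : ℕ}

namespace Data

variable (D : Data P σ τ n)
include D

theorem mem_centralizer_zpowers {a : G} (ha : a ∈ Subgroup.zpowers σ) :
    a ∈ Subgroup.centralizer ({σ ^ 2 ^ (n - 2)} : Set G) := D.le_centralizer (D.le_sylow ha)

theorem conj_rot {s a : G} (hs : s ∈ (P : Subgroup G)) (ha : a ∈ Subgroup.zpowers σ) :
    s * a * s⁻¹ = a ∨ s * a * s⁻¹ = a⁻¹ := by
  obtain ⟨j, rfl⟩ := Subgroup.mem_zpowers_iff.1 ha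
  rcases D.cases s hs with h | h
  · obtain ⟨i, rfl⟩ := Subgroup.mem_zpowers_iff.1 h
    left
    rw [← zpow_add, ← zpow_neg, ← zpow_add]
    congr 1
    ring
  · obtain ⟨i, hi⟩ := Subgroup.mem_zpowers_iff.1 h
    right
    have hτi := CfsgLib.Invol.inv_eq_self D.ordτ
    rw [show s = σ ^ i * τ⁻¹ by rw [hi, mul_inv_cancel_right],
      show σ ^ i * τ⁻¹ * σ ^ j * (σ ^ i * τ⁻¹)⁻¹ =
        σ ^ i * (τ⁻¹ * σ ^ j * (τ⁻¹)⁻¹) * (σ ^ i)⁻¹ by group,
      hτi, D.conj_τ (zpow_mem (Subgroup.mem_zpowers σ) j), ← zpow_neg, ← zpow_add, ← zpow_neg,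
      ← zpow_add]
    congr 1
    ring

/-- The retraction, extended. -/
noncomputable def proj (g : G) : G :=
  if h : g ∈ Subgroup.centralizer ({σ ^ 2 ^ (n - 2)} : Set G) then (D.ret ⟨g, h⟩ : G) else 1

theorem proj_mem (g : G) : D.proj g ∈ (P : Subgroup G) := by
  rw [proj]
  split_ifs
  exacts [SetLike.coe_mem _, one_mem _]

theorem proj_of_mem {g : G} (hg : g ∈ (P : Subgroup G)) : D.proj g = g := by
  rw [proj, dif_pos (D.le_centralizer hg), D.ret_apply' _ hg]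

theorem proj_mul {g h : G} (hg : g ∈ Subgroup.centralizer ({σ ^ 2 ^ (n - 2)} : Set G))
    (hh : h ∈ Subgroup.centralizer ({σ ^ 2 ^ (n - 2)} : Set G)) :
    D.proj (g * h) = D.proj g * D.proj h := by
  rw [proj, proj, proj, dif_pos hg, dif_pos hh, dif_pos (mul_mem hg hh)]
  exact congrArg Subtype.val (map_mul D.ret ⟨g, hg⟩ ⟨h, hh⟩)

theorem proj_inv {g : G} (hg : g ∈ Subgroup.centralizer ({σ ^ 2 ^ (n - 2)} : Set G)) :
    D.proj g⁻¹ = (D.proj g)⁻¹ := by
  rw [proj, proj, dif_pos hg, dif_pos (inv_mem hg)]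
  exact congrArg Subtype.val (map_inv D.ret ⟨g, hg⟩)

theorem proj_conj {c g : G} (hc : c ∈ Subgroup.centralizer ({σ ^ 2 ^ (n - 2)} : Set G))
    (hg : g ∈ Subgroup.centralizer ({σ ^ 2 ^ (n - 2)} : Set G)) :
    D.proj (c * g * c⁻¹) = D.proj c * D.proj g * (D.proj c)⁻¹ := by
  rw [D.proj_mul (mul_mem hc hg) (inv_mem hc), D.proj_mul hc hg, D.proj_inv hc]

theorem proj_odd {g : G} (hg : g ∈ Subgroup.centralizer ({σ ^ 2 ^ (n - 2)} : Set G))
    (ho : ¬ 2 ∣ orderOf g) : D.proj g = 1 := by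
  rw [proj, dif_pos hg]
  obtain ⟨k, hk⟩ := IsPGroup.iff_orderOf.1 P.2 (D.ret ⟨g, hg⟩)
  have h1 : orderOf (D.ret ⟨g, hg⟩) ∣ orderOf g := by
    rw [← Subgroup.orderOf_mk g hg]
    exact orderOf_map_dvd D.ret ⟨g, hg⟩
  rw [hk] at h1
  rcases k with _ | k
  · rw [orderOf_eq_one_iff.1 (hk.trans (pow_zero 2))]; rfl
  · exact absurd ((dvd_pow_self 2 (by omega)).trans h1) ho

theorem odd_of_proj {g : G} (hg : g ∈ Subgroup.centralizer ({σ ^ 2 ^ (n - 2)} : Set G))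
    (h : D.proj g = 1) : ¬ 2 ∣ orderOf g := by
  rw [proj, dif_pos hg] at h
  have h1 : (⟨g, hg⟩ : Subgroup.centralizer ({σ ^ 2 ^ (n - 2)} : Set G)) ∈
      core 2 (σ ^ 2 ^ (n - 2)) := by
    rw [← D.ker_ret, MonoidHom.mem_ker]; exact Subtype.ext h
  have h2 := not_dvd_orderOf Nat.prime_two h1
  rwa [Subgroup.orderOf_mk] at h2

/-- The involutions of the centralizer of the central involution other than it. -/
noncomputable def refl (_D : Data P σ τ n) : Finset G :=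
  univ.filter fun u => u ∈ Subgroup.centralizer ({σ ^ 2 ^ (n - 2)} : Set G) ∧ u * u = 1 ∧ u ≠ 1 ∧
    u ≠ σ ^ 2 ^ (n - 2)

theorem proj_refl {u : G} (hu : u ∈ D.refl) : D.proj u ∉ Subgroup.zpowers σ := by
  obtain ⟨hC, h2, h1, hz⟩ := (mem_filter.1 hu).2
  intro hA
  have hsq : D.proj u * D.proj u = 1 := by
    rw [← D.proj_mul hC hC, h2, D.proj_of_mem (one_mem _)]
  have key : ∀ w, w ∈ Subgroup.centralizer ({σ ^ 2 ^ (n - 2)} : Set G) → D.proj w = 1 →
      w * w = 1 → w = 1 := fun w hw hp hw2 => by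
    by_contra hne
    exact D.odd_of_proj hw hp (CfsgLib.Invol.orderOf_eq_two hw2 hne ▸ dvd_rfl)
  rcases D.eq_z hA hsq with h | h
  · exact h1 (key u hC h h2)
  · have hzC := D.mem_centralizer_zpowers (z_mem_zpowers (σ := σ) (n := n))
    have hc : u * σ ^ 2 ^ (n - 2) = σ ^ 2 ^ (n - 2) * u := Subgroup.mem_centralizer_singleton_iff.1 hC
    refine hz ?_
    have h3 := key (u * σ ^ 2 ^ (n - 2)) (mul_mem hC hzC)
      (by rw [D.proj_mul hC hzC, h, D.proj_of_mem (D.le_sylow z_mem_zpowers), D.z_sq])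
      (by
        calc u * σ ^ 2 ^ (n - 2) * (u * σ ^ 2 ^ (n - 2))
            = u * σ ^ 2 ^ (n - 2) * (σ ^ 2 ^ (n - 2) * u) := by rw [hc]
          _ = u * (σ ^ 2 ^ (n - 2) * σ ^ 2 ^ (n - 2)) * u := by group
          _ = 1 := by rw [D.z_sq, mul_one, h2])
    rw [eq_inv_of_mul_eq_one_left h3, D.z_inv]

theorem proj_mul_refl {u w : G} (hu : u ∈ D.refl) (hw : w ∈ D.refl) :
    D.proj (u * w) ∈ Subgroup.zpowers σ := by
  rw [D.proj_mul (mem_filter.1 hu).2.1 (mem_filter.1 hw).2.1]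
  have h1 := (D.cases _ (D.proj_mem u)).resolve_left (D.proj_refl hu)
  have h2 := (D.cases _ (D.proj_mem w)).resolve_left (D.proj_refl hw)
  obtain ⟨i, hi⟩ := Subgroup.mem_zpowers_iff.1 h2
  have : D.proj u * D.proj w = D.proj u * τ * (τ * σ ^ i * τ⁻¹)⁻¹⁻¹ := by
    rw [inv_inv, hi]
    calc D.proj u * D.proj w = D.proj u * (τ * τ) * D.proj w := by
          rw [CfsgLib.Invol.mul_self_eq_one D.ordτ, mul_one]
      _ = D.proj u * τ * (τ * (D.proj w * τ) * τ⁻¹) := by group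
  rw [this, inv_inv, D.conj_τ (zpow_mem (Subgroup.mem_zpowers σ) i)]
  exact mul_mem h1 (inv_mem (zpow_mem (Subgroup.mem_zpowers σ) i))

/-- The pairs with a given rotation. -/
noncomputable def fibre (a : G) : Finset (G × G) :=
  (D.refl ×ˢ D.refl).filter fun uw => D.proj (uw.1 * uw.2) = a

theorem card_fibre_inv (a : G) : (D.fibre a⁻¹).card = (D.fibre a).card := by
  have key : ∀ uw : G × G, uw ∈ D.refl ×ˢ D.refl →
      D.proj (uw.2 * uw.1) = (D.proj (uw.1 * uw.2))⁻¹ := fun uw huw => by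
    obtain ⟨hu, hw⟩ := mem_product.1 huw
    obtain ⟨hC, h2, -, -⟩ := (mem_filter.1 hu).2
    obtain ⟨hC', h2', -, -⟩ := (mem_filter.1 hw).2
    rw [← D.proj_inv (mul_mem hC hC'), _root_.mul_inv_rev, inv_eq_of_mul_eq_one_right h2,
      inv_eq_of_mul_eq_one_right h2']
  refine card_bij (fun uw _ => (uw.2, uw.1)) (fun uw h => ?_)
    (fun _ _ _ _ h => Prod.ext (congrArg Prod.snd h) (congrArg Prod.fst h)) fun uw h => ?_
  · obtain ⟨h1, h2⟩ := mem_filter.1 h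
    refine mem_filter.2 ⟨mem_product.2 ⟨(mem_product.1 h1).2, (mem_product.1 h1).1⟩, ?_⟩
    show D.proj (uw.2 * uw.1) = a
    rw [key uw h1, h2, inv_inv]
  · obtain ⟨h1, h2⟩ := mem_filter.1 h
    refine ⟨(uw.2, uw.1), mem_filter.2 ⟨mem_product.2 ⟨(mem_product.1 h1).2, (mem_product.1 h1).1⟩, ?_⟩,
      rfl⟩
    show D.proj (uw.2 * uw.1) = a⁻¹
    rw [key uw h1, h2]

theorem card_fibre_z : (D.fibre 1).card = (D.fibre (σ ^ 2 ^ (n - 2))).card := by
  have hzC := D.mem_centralizer_zpowers (z_mem_zpowers (σ := σ) (n := n))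
  have hR : ∀ w ∈ D.refl, w * σ ^ 2 ^ (n - 2) ∈ D.refl := fun w hw => by
    obtain ⟨hC, h2, h1, hz⟩ := (mem_filter.1 hw).2
    have hc : w * σ ^ 2 ^ (n - 2) = σ ^ 2 ^ (n - 2) * w := Subgroup.mem_centralizer_singleton_iff.1 hC
    refine mem_filter.2 ⟨mem_univ _, mul_mem hC hzC, ?_, fun h => hz ?_, fun h => h1 ?_⟩
    · calc w * σ ^ 2 ^ (n - 2) * (w * σ ^ 2 ^ (n - 2))
          = w * σ ^ 2 ^ (n - 2) * (σ ^ 2 ^ (n - 2) * w) := by rw [hc]
        _ = w * (σ ^ 2 ^ (n - 2) * σ ^ 2 ^ (n - 2)) * w := by group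
        _ = 1 := by rw [D.z_sq, mul_one, h2]
    · rw [eq_inv_of_mul_eq_one_left h, D.z_inv]
    · exact mul_eq_right.1 h
  have hp : ∀ uw : G × G, uw ∈ D.refl ×ˢ D.refl →
      D.proj (uw.1 * (uw.2 * σ ^ 2 ^ (n - 2))) = D.proj (uw.1 * uw.2) * σ ^ 2 ^ (n - 2) := fun uw h => by
    rw [← mul_assoc, D.proj_mul (mul_mem (mem_filter.1 (mem_product.1 h).1).2.1
      (mem_filter.1 (mem_product.1 h).2).2.1) hzC, D.proj_of_mem (D.le_sylow z_mem_zpowers)]
  refine card_bij (fun uw _ => (uw.1, uw.2 * σ ^ 2 ^ (n - 2))) (fun uw h => ?_)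
    (fun _ _ _ _ h => Prod.ext (congrArg Prod.fst h :) (mul_right_cancel (congrArg Prod.snd h :)))
    fun uw h => ?_
  · obtain ⟨h1, h2⟩ := mem_filter.1 h
    refine mem_filter.2 ⟨mem_product.2 ⟨(mem_product.1 h1).1, hR _ (mem_product.1 h1).2⟩, ?_⟩
    rw [hp uw h1, h2, one_mul]
  · obtain ⟨h1, h2⟩ := mem_filter.1 h
    refine ⟨(uw.1, uw.2 * σ ^ 2 ^ (n - 2)),
      mem_filter.2 ⟨mem_product.2 ⟨(mem_product.1 h1).1, hR _ (mem_product.1 h1).2⟩, ?_⟩, ?_⟩
    · rw [hp uw h1, h2, D.z_sq]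
    · exact Prod.ext rfl (by rw [mul_assoc, D.z_sq, mul_one])

theorem card_refl_sq : D.refl.card * D.refl.card =
    ∑ l ∈ range (2 * 2 ^ (n - 2)), (D.fibre (σ ^ l)).card := by
  rw [← card_product, card_eq_sum_card_fiberwise (f := fun uw : G × G => D.proj (uw.1 * uw.2))
    (t := (range (2 * 2 ^ (n - 2))).image fun l => σ ^ l) fun uw h => ?_]
  · refine sum_image fun a ha b hb h => ?_
    rw [coe_range, Set.mem_Iio, ← D.q_eq] at ha hb
    exact pow_injOn_Iio_orderOf ha hb h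
  · obtain ⟨l, hl⟩ := mem_powers_iff_mem_zpowers.2
      (D.proj_mul_refl (mem_product.1 h).1 (mem_product.1 h).2)
    refine mem_image.2 ⟨l % orderOf σ, mem_range.2 (D.q_eq ▸ Nat.mod_lt _ (orderOf_pos σ)), ?_⟩
    exact (pow_mod_orderOf σ l).trans hl

/-- **Double counting.** -/
theorem card_section (hinv : ∀ v : G, orderOf v = 2 → IsConj (σ ^ 2 ^ (n - 2)) v) {x : G}
    (hx : x ∈ Subgroup.zpowers σ) (hx1 : x ≠ 1)
    [DecidablePred (IsConj (σ ^ 2 ^ (n - 2)))] [DecidablePred (· ∈ section' 2 x)] :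
    ((((univ.filter (IsConj (σ ^ 2 ^ (n - 2)))) ×ˢ (univ.filter (IsConj (σ ^ 2 ^ (n - 2))))).filter
        fun uw : G × G => uw.1 * uw.2 ∈ section' 2 x).card) =
      (univ.filter (IsConj (σ ^ 2 ^ (n - 2)))).card *
        ((D.refl ×ˢ D.refl).filter
          fun uw => D.proj (uw.1 * uw.2) = x ∨ D.proj (uw.1 * uw.2) = x⁻¹).card := by
  set K := univ.filter (IsConj (σ ^ 2 ^ (n - 2))) with hK
  set T := (K ×ˢ K).filter fun uw : G × G => uw.1 * uw.2 ∈ section' 2 x with hT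
  obtain ⟨k, hk⟩ := D.exists_orderOf hx
  have hKmem : ∀ {u : G}, u ∈ K ↔ IsConj (σ ^ 2 ^ (n - 2)) u := fun {u} => by simp [hK]
  have hwd : ∀ {g c c' : G} {v v' : Subgroup.centralizer ({x} : Set G)}, v ∈ core 2 x →
      v' ∈ core 2 x → c * (x * (v : G)) * c⁻¹ = g → c' * (x * (v' : G)) * c'⁻¹ = g →
      c * σ ^ 2 ^ (n - 2) * c⁻¹ = c' * σ ^ 2 ^ (n - 2) * c'⁻¹ := by
    intro g c c' v v' hv hv' h h'
    have he : c'⁻¹ * c * (x * (v : G)) * (c'⁻¹ * c)⁻¹ = x * (v' : G) := by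
      calc c'⁻¹ * c * (x * (v : G)) * (c'⁻¹ * c)⁻¹ = c'⁻¹ * (c * (x * (v : G)) * c⁻¹) * c' := by group
        _ = _ := by rw [h, ← h']; group
    have hC := D.centralizer_le hx hx1
      (fix_of_conj_section Nat.prime_two hk (not_dvd_orderOf Nat.prime_two hv)
        (not_dvd_orderOf Nat.prime_two hv') he).1
    have h2 : c'⁻¹ * c * σ ^ 2 ^ (n - 2) = σ ^ 2 ^ (n - 2) * (c'⁻¹ * c) :=
      Subgroup.mem_centralizer_singleton_iff.1 hC
    calc c * σ ^ 2 ^ (n - 2) * c⁻¹ = c' * (c'⁻¹ * c * σ ^ 2 ^ (n - 2)) * c⁻¹ := by group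
      _ = _ := by rw [h2]; group
  -- the associated involution
  let Rel : G → G → Prop := fun g k => ∃ c : G, ∃ v ∈ core 2 x, c * (x * (v : G)) * c⁻¹ = g ∧
    c * σ ^ 2 ^ (n - 2) * c⁻¹ = k
  have huniq : ∀ {g k k'}, Rel g k → Rel g k' → k = k' := by
    rintro g k k' ⟨c, v, hv, h, rfl⟩ ⟨c', v', hv', h', rfl⟩
    exact hwd hv hv' h h'
  have hrel : ∀ uw ∈ T, ∃ k ∈ K, Rel (uw.1 * uw.2) k := by
    intro uw huw
    obtain ⟨c, v, hv, h⟩ := (mem_filter.1 huw).2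
    exact ⟨_, hKmem.2 (isConj_iff.2 ⟨c, rfl⟩), c, v, hv, h, rfl⟩
  choose φ hφK hφ using hrel
  let Φ : G × G → G := fun uw => if h : uw ∈ T then φ uw h else 1
  have hΦ : ∀ uw ∈ T, ∀ k, Φ uw = k ↔ Rel (uw.1 * uw.2) k := fun uw h k => by
    simp only [Φ, dif_pos h]
    exact ⟨fun e => e ▸ hφ uw h, fun e => huniq (hφ uw h) e⟩
  have hfib : ∀ a : G, (T.filter fun uw => Φ uw = a * σ ^ 2 ^ (n - 2) * a⁻¹).card =
      (T.filter fun uw => Φ uw = σ ^ 2 ^ (n - 2)).card := by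
    intro a
    have hmove : ∀ (b : G) (uw : G × G) (k : G), uw ∈ T → Φ uw = k →
        (b * uw.1 * b⁻¹, b * uw.2 * b⁻¹) ∈ T.filter (fun uw => Φ uw = b * k * b⁻¹) := by
      intro b uw k h hk'
      obtain ⟨hp, hs⟩ := mem_filter.1 h
      have hmul : b * uw.1 * b⁻¹ * (b * uw.2 * b⁻¹) = b * (uw.1 * uw.2) * b⁻¹ := by group
      have hT' : (b * uw.1 * b⁻¹, b * uw.2 * b⁻¹) ∈ T :=
        mem_filter.2 ⟨mem_product.2 ⟨hKmem.2 ((hKmem.1 (mem_product.1 hp).1).trans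
            (isConj_iff.2 ⟨b, rfl⟩)),
          hKmem.2 ((hKmem.1 (mem_product.1 hp).2).trans (isConj_iff.2 ⟨b, rfl⟩))⟩, by
          show b * uw.1 * b⁻¹ * (b * uw.2 * b⁻¹) ∈ section' 2 x
          rw [hmul]; exact conj_mem_section hs b⟩
      refine mem_filter.2 ⟨hT', (hΦ _ hT' _).2 ?_⟩
      obtain ⟨c, v, hv, h1, h2⟩ := (hΦ uw h k).1 hk'
      refine ⟨b * c, v, hv, ?_, ?_⟩
      · show b * c * (x * (v : G)) * (b * c)⁻¹ = b * uw.1 * b⁻¹ * (b * uw.2 * b⁻¹)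
        rw [hmul, ← h1]; group
      · rw [← h2]; group
    refine card_bij (fun uw _ => (a⁻¹ * uw.1 * a⁻¹⁻¹, a⁻¹ * uw.2 * a⁻¹⁻¹)) (fun uw h => ?_)
      (fun p _ p' _ h => ?_) fun uw h => ?_
    · have := hmove a⁻¹ uw _ (mem_filter.1 h).1 (mem_filter.1 h).2
      rwa [show a⁻¹ * (a * σ ^ 2 ^ (n - 2) * a⁻¹) * a⁻¹⁻¹ = σ ^ 2 ^ (n - 2) by group] at this
    · rw [Prod.mk.injEq] at h
      exact Prod.ext (mul_left_cancel (mul_right_cancel h.1)) (mul_left_cancel (mul_right_cancel h.2))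
    · exact ⟨(a * uw.1 * a⁻¹, a * uw.2 * a⁻¹), hmove a uw _ (mem_filter.1 h).1 (mem_filter.1 h).2,
        Prod.ext (by group) (by group)⟩
  have hz : (T.filter fun uw => Φ uw = σ ^ 2 ^ (n - 2)) =
      (D.refl ×ˢ D.refl).filter
        fun uw => D.proj (uw.1 * uw.2) = x ∨ D.proj (uw.1 * uw.2) = x⁻¹ := by
    ext ⟨u, w⟩
    have hxC := D.mem_centralizer_zpowers hx
    have hproj : ∀ {c : G} {v : Subgroup.centralizer ({x} : Set G)}, v ∈ core 2 x →
        c ∈ Subgroup.centralizer ({σ ^ 2 ^ (n - 2)} : Set G) →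
        D.proj (c * (x * (v : G)) * c⁻¹) = D.proj c * x * (D.proj c)⁻¹ := fun {c v} hv hc => by
      have hvC := D.centralizer_le hx hx1 v.2
      rw [D.proj_conj hc (mul_mem hxC hvC), D.proj_mul hxC hvC, D.proj_of_mem (D.le_sylow hx),
        D.proj_odd hvC (by rw [Subgroup.orderOf_coe]; exact not_dvd_orderOf Nat.prime_two hv),
        mul_one]
    constructor
    · intro h
      obtain ⟨hTm, hΦz⟩ := mem_filter.1 h
      obtain ⟨c, v, hv, hg, hc⟩ := (hΦ _ hTm _).1 hΦz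
      dsimp only at hg
      obtain ⟨hpK, -⟩ := mem_filter.1 hTm
      have hu2 : orderOf u = 2 := by
        obtain ⟨b, hb⟩ : ∃ b, b * σ ^ 2 ^ (n - 2) * b⁻¹ = u :=
          isConj_iff.1 (hKmem.1 (mem_product.1 hpK).1)
        rw [← hb, CfsgLib.Invol.orderOf_conj_eq, D.orderOf_z]
      have hw2 : orderOf w = 2 := by
        obtain ⟨b, hb⟩ : ∃ b, b * σ ^ 2 ^ (n - 2) * b⁻¹ = w :=
          isConj_iff.1 (hKmem.1 (mem_product.1 hpK).2)
        rw [← hb, CfsgLib.Invol.orderOf_conj_eq, D.orderOf_z]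
      have hcC : c ∈ Subgroup.centralizer ({σ ^ 2 ^ (n - 2)} : Set G) :=
        Subgroup.mem_centralizer_singleton_iff.2 (mul_inv_eq_iff_eq_mul.1 hc)
      have hgC : u * w ∈ Subgroup.centralizer ({σ ^ 2 ^ (n - 2)} : Set G) := by
        rw [← hg]
        exact mul_mem (mul_mem hcC (mul_mem hxC (D.centralizer_le hx hx1 v.2))) (inv_mem hcC)
      -- the central involution is a power of the product
      obtain ⟨e, he⟩ := D.exists_pow_eq_z hx hx1
      have hcomm : Commute x (v : G) := (Subgroup.mem_centralizer_singleton_iff.1 v.2).symm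
      obtain ⟨N, hN⟩ : ∃ N : ℕ, (x * (v : G)) ^ N = x := by
        have hcop : Nat.Coprime (orderOf (v : G)) (orderOf x) := by
          rw [hk, Subgroup.orderOf_coe]
          exact ((Nat.prime_two.coprime_iff_not_dvd.2 (not_dvd_orderOf Nat.prime_two hv)).pow_left k).symm
        obtain ⟨m, hm⟩ := exists_pow_eq_self_of_coprime hcop
        refine ⟨orderOf (v : G) * m, ?_⟩
        rw [pow_mul, hcomm.mul_pow, pow_orderOf_eq_one, mul_one, hm]
      have hpow : (u * w) ^ (N * e) = σ ^ 2 ^ (n - 2) := by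
        rw [← hg, conj_pow, pow_mul, hN, he, hc]
      have huz : u * σ ^ 2 ^ (n - 2) * u⁻¹ = σ ^ 2 ^ (n - 2) := by
        rw [← hpow, ← conj_pow, CfsgLib.Invol.conj_mul_inv hu2 hw2, inv_pow, hpow, D.z_inv]
      have huC : u ∈ Subgroup.centralizer ({σ ^ 2 ^ (n - 2)} : Set G) :=
        Subgroup.mem_centralizer_singleton_iff.2 (mul_inv_eq_iff_eq_mul.1 huz)
      have hwC : w ∈ Subgroup.centralizer ({σ ^ 2 ^ (n - 2)} : Set G) := by
        have := mul_mem (inv_mem huC) hgC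
        rwa [inv_mul_cancel_left] at this
      have huw : u ≠ w := fun h => by
        have : (u * w) ^ (N * e) = 1 := by
          rw [h, CfsgLib.Invol.mul_self_eq_one hw2, one_pow]
        exact D.z_ne_one (hpow.symm.trans this)
      have hsq : u * w * (u * w) = 1 → u * w = σ ^ 2 ^ (n - 2) := fun h => by
        rcases Nat.even_or_odd (N * e) with ⟨b, hb⟩ | ⟨b, hb⟩
        · rw [hb, ← two_mul, pow_mul, sq, h, one_pow] at hpow
          exact absurd hpow.symm D.z_ne_one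
        · rw [hb, pow_succ, pow_mul, sq, h, one_pow, one_mul] at hpow
          exact hpow
      refine mem_filter.2 ⟨mem_product.2 ⟨mem_filter.2 ⟨mem_univ _, huC,
          CfsgLib.Invol.mul_self_eq_one hu2, CfsgLib.Invol.ne_one hu2, fun (hz' : u = _) => ?_⟩,
        mem_filter.2 ⟨mem_univ _, hwC, CfsgLib.Invol.mul_self_eq_one hw2, CfsgLib.Invol.ne_one hw2,
          fun (hz' : w = _) => ?_⟩⟩, ?_⟩
      · have h1 : u * w * (u * w) = 1 := by
          rw [hz', ← mul_assoc, mul_assoc (σ ^ 2 ^ (n - 2)) w,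
            Subgroup.mem_centralizer_singleton_iff.1 hwC, ← mul_assoc, D.z_sq, one_mul,
            CfsgLib.Invol.mul_self_eq_one hw2]
        refine CfsgLib.Invol.ne_one hw2 (mul_left_cancel (a := u) ?_)
        rw [hsq h1, hz', mul_one]
      · have h1 : u * w * (u * w) = 1 := by
          rw [hz', ← mul_assoc, mul_assoc u (σ ^ 2 ^ (n - 2)),
            ← Subgroup.mem_centralizer_singleton_iff.1 huC, ← mul_assoc,
            CfsgLib.Invol.mul_self_eq_one hu2, one_mul, D.z_sq]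
        refine CfsgLib.Invol.ne_one hu2 (mul_right_cancel (b := w) ?_)
        rw [hsq h1, hz', one_mul]
      · show D.proj (u * w) = x ∨ D.proj (u * w) = x⁻¹
        rw [← hg, hproj hv hcC]
        exact D.conj_rot (D.proj_mem c) hx
    · intro h
      obtain ⟨hp, hx'⟩ := mem_filter.1 h
      obtain ⟨hu, hw⟩ := mem_product.1 hp
      obtain ⟨huC, hu2, hu1, -⟩ := (mem_filter.1 hu).2
      obtain ⟨hwC, hw2, hw1, -⟩ := (mem_filter.1 hw).2
      have hgC := mul_mem huC hwC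
      obtain ⟨y, v, hy, hv, hyv, ⟨e, he⟩, hodd⟩ := exists_parts Nat.prime_two (u * w)
      have hle := (Subgroup.zpowers_le (H := Subgroup.centralizer ({σ ^ 2 ^ (n - 2)} : Set G))).2 hgC
      have hyC := hle hy
      have hvC := hle hv
      -- move the primary part into the Sylow subgroup
      have hy2 : IsPGroup 2 (Subgroup.zpowers
          (⟨y, hyC⟩ : Subgroup.centralizer ({σ ^ 2 ^ (n - 2)} : Set G))) := by
        obtain ⟨m, -, hm⟩ := (Nat.dvd_prime_pow Nat.prime_two).1 (orderOf_dvd_of_pow_eq_one he)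
        exact IsPGroup.of_card (n := m) (by rw [Nat.card_zpowers, Subgroup.orderOf_mk, hm])
      obtain ⟨R, hR⟩ := hy2.exists_le_sylow
      obtain ⟨c, hc⟩ := MulAction.exists_smul_eq
        (Subgroup.centralizer ({σ ^ 2 ^ (n - 2)} : Set G)) R (P.subtype D.le_centralizer)
      have hs : (c : G) * y * (c : G)⁻¹ ∈ (P : Subgroup G) := by
        have h1 : c * ⟨y, hyC⟩ * c⁻¹ ∈ ((c • R : Sylow 2 _) : Subgroup _) := by
          rw [Sylow.smul_def, Sylow.pointwise_smul_def]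
          exact Subgroup.smul_mem_pointwise_smul _ (MulAut.conj c) _ (hR (Subgroup.mem_zpowers _))
        rw [hc] at h1
        exact h1
      have hpy : D.proj y = D.proj (u * w) := by
        rw [← hyv, D.proj_mul hyC hvC, D.proj_odd hvC hodd, mul_one]
      have hxy : D.proj y ∈ Subgroup.zpowers σ ∧ (D.proj y = x ∨ D.proj y = x⁻¹) := by
        refine ⟨?_, hpy ▸ hx'⟩
        rw [hpy]
        rcases hx' with h' | h' <;> rw [h']
        exacts [hx, inv_mem hx]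
      have hs' : (c : G) * y * (c : G)⁻¹ = x ∨ (c : G) * y * (c : G)⁻¹ = x⁻¹ := by
        rw [← D.proj_of_mem hs, D.proj_conj c.2 hyC]
        rcases D.conj_rot (D.proj_mem (c : G)) hxy.1 with h' | h' <;> rw [h'] <;>
          rcases hxy.2 with h'' | h'' <;> rw [h''] <;> simp
      obtain ⟨d, hdC, hd⟩ : ∃ d ∈ Subgroup.centralizer ({σ ^ 2 ^ (n - 2)} : Set G),
          d * y * d⁻¹ = x := by
        rcases hs' with h' | h'
        · exact ⟨c, c.2, h'⟩
        · refine ⟨τ * c, mul_mem (D.le_centralizer D.τ_mem) c.2, ?_⟩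
          rw [show τ * (c : G) * y * (τ * (c : G))⁻¹ = τ * ((c : G) * y * (c : G)⁻¹) * τ⁻¹ by group,
            h', D.conj_τ (inv_mem hx), inv_inv]
      have hyv' : y * v = v * y := by
        obtain ⟨i, rfl⟩ := Subgroup.mem_zpowers_iff.1 hy
        obtain ⟨j, rfl⟩ := Subgroup.mem_zpowers_iff.1 hv
        rw [← zpow_add, ← zpow_add, add_comm]
      have hv'C : d * v * d⁻¹ ∈ Subgroup.centralizer ({x} : Set G) := by
        rw [Subgroup.mem_centralizer_singleton_iff, ← hd]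
        calc d * v * d⁻¹ * (d * y * d⁻¹) = d * (v * y) * d⁻¹ := by group
          _ = _ := by rw [← hyv']; group
      have hcore : (⟨d * v * d⁻¹, hv'C⟩ : Subgroup.centralizer ({x} : Set G)) ∈ core 2 x := by
        obtain ⟨a, ha⟩ : ∃ a, (core 2 x).index = 2 ^ a := by
          by_cases hxz : x = σ ^ 2 ^ (n - 2)
          · exact ⟨n, by rw [hxz]; exact D.index_core_z⟩
          · exact ⟨_, D.index_core_rot hx hx1 hxz⟩
        haveI := CfsgLib.Solvable.pPrimeCore_normal (G := Subgroup.centralizer ({x} : Set G)) 2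
        rw [← QuotientGroup.eq_one_iff, ← orderOf_eq_one_iff]
        have h1 : orderOf ((⟨d * v * d⁻¹, hv'C⟩ : Subgroup.centralizer ({x} : Set G)) :
            Subgroup.centralizer ({x} : Set G) ⧸ core 2 x) ∣ 2 ^ a := by
          rw [← ha, Subgroup.index]; exact orderOf_dvd_natCard _
        have h2 : orderOf ((⟨d * v * d⁻¹, hv'C⟩ : Subgroup.centralizer ({x} : Set G)) :
            Subgroup.centralizer ({x} : Set G) ⧸ core 2 x) ∣ orderOf v := by
          rw [← CfsgLib.Invol.orderOf_conj_eq d v, ← Subgroup.orderOf_mk _ hv'C]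
          exact orderOf_map_dvd (QuotientGroup.mk' (core 2 x)) _
        exact Nat.eq_one_of_dvd_coprimes ((Nat.prime_two.coprime_iff_not_dvd.2 hodd).pow_left a) h1 h2
      have hgform : d⁻¹ * (x * (d * v * d⁻¹)) * d⁻¹⁻¹ = u * w := by rw [← hd, ← hyv]; group
      have hTm : (u, w) ∈ T := mem_filter.2 ⟨mem_product.2
        ⟨hKmem.2 (hinv u (CfsgLib.Invol.orderOf_eq_two hu2 hu1)),
          hKmem.2 (hinv w (CfsgLib.Invol.orderOf_eq_two hw2 hw1))⟩,
        ⟨d⁻¹, ⟨_, hv'C⟩, hcore, hgform⟩⟩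
      refine mem_filter.2 ⟨hTm, (hΦ _ hTm _).2 ⟨d⁻¹, ⟨_, hv'C⟩, hcore, hgform, ?_⟩⟩
      have hdz : d⁻¹ * σ ^ 2 ^ (n - 2) = σ ^ 2 ^ (n - 2) * d⁻¹ :=
        Subgroup.mem_centralizer_singleton_iff.1 (inv_mem hdC)
      rw [hdz, inv_inv, inv_mul_cancel_right]
  have hmaps : ∀ uw ∈ T, Φ uw ∈ K := fun uw h => by simp only [Φ, dif_pos h]; exact hφK uw h
  have key : ∀ k ∈ K, (T.filter fun uw => Φ uw = k).card = ((D.refl ×ˢ D.refl).filter
      fun uw => D.proj (uw.1 * uw.2) = x ∨ D.proj (uw.1 * uw.2) = x⁻¹).card := fun k hk' => by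
    obtain ⟨a, rfl⟩ := isConj_iff.1 (hKmem.1 hk')
    rw [hfib a, hz]
  rw [card_eq_sum_card_fiberwise hmaps, sum_congr rfl key, sum_const, smul_eq_mul]

end Data

end CfsgLib.DihPrincipal
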