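import Cfsg.Agent.BlocksB.DihedralPrincipal.Table
import Cfsg.Agent.BlocksB.DihedralPrincipal.Count

/-!
# The order of a group with dihedral Sylow 2-subgroup and one class of involutions
-/

set_option autoImplicit false
set_option linter.style.haveILetI false
set_option linter.unusedSectionVars false

namespace CfsgLib.DihPrincipal

open Cfsg Finset CfsgLib.Block CfsgLib.Block.Chr CfsgLib.SectionCount
open scoped ComplexConjugate
open scoped Classical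

universe u

theorem sum_pairs {ζ : ℂ} {h : ℕ} (hζ : IsPrimitiveRoot ζ (2 * h)) (hh : 0 < h) {l : ℕ}
    (hl0 : 0 < l) (hl : l < 2 * h) :
    ∑ i : Fin (h - 1), (ζ ^ (((i : ℕ) + 1) * l) + (ζ ^ (((i : ℕ) + 1) * l))⁻¹) = -1 - (-1) ^ l := by
  have hpowh : ζ ^ h = -1 := by
    have h1 : ζ ^ h * ζ ^ h = 1 := by rw [← pow_add, ← two_mul, hζ.pow_eq_one]
    exact (mul_self_eq_one_iff.1 h1).resolve_left (hζ.pow_ne_one_of_pos_of_lt (by omega) (by omega))
  have h1 : ∑ j ∈ range (2 * h), ζ ^ (j * l) = 0 := by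
    have hx : ζ ^ l ≠ 1 := hζ.pow_ne_one_of_pos_of_lt hl0.ne' hl
    rw [sum_congr rfl fun j _ => show ζ ^ (j * l) = (ζ ^ l) ^ j by rw [← pow_mul, mul_comm],
      geom_sum_eq hx, ← pow_mul, mul_comm l, pow_mul, hζ.pow_eq_one, one_pow, sub_self, zero_div]
  rw [sum_range_two_mul _ hh, zero_mul, pow_zero, pow_mul ζ, hpowh] at h1
  have h2 : ∀ i : Fin (h - 1), (ζ ^ (((i : ℕ) + 1) * l))⁻¹ = ζ ^ ((2 * h - ((i : ℕ) + 1)) * l) :=
    fun i => (eq_inv_of_mul_eq_one_left (by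
      rw [← pow_add, ← add_mul, Nat.sub_add_cancel (by omega), pow_mul, hζ.pow_eq_one, one_pow])).symm
  simp only [h2]
  linear_combination h1

theorem sum_neg_one_pow {t : ℕ} (ht : Odd t) : ∑ i : Fin t, (-1 : ℂ) ^ (i : ℕ) = 1 := by
  rw [Fin.sum_univ_eq_sum_range (fun i => (-1 : ℂ) ^ i) t, neg_one_geom_sum,
    if_neg (Nat.not_even_iff_odd.2 ht)]

variable {G : Type u} [Group G] [Fintype G] [Fact (Nat.Prime 2)] {P : Sylow 2 G} {σ τ : G} {n : ℕ}

namespace Data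

variable (D : Data P σ τ n)
include D

theorem conj_τ_pow (k : ℕ) : σ ^ k * τ * (σ ^ k)⁻¹ = σ ^ (2 * k) * τ := by
  have h1 := D.conj_τ (Subgroup.npow_mem_zpowers σ k)
  have h2 : τ * (σ ^ k)⁻¹ = σ ^ k * τ := by
    rw [← h1]
    have hτi := CfsgLib.Invol.inv_eq_self D.ordτ
    calc τ * (τ * σ ^ k * τ⁻¹) = (τ * τ) * σ ^ k * τ⁻¹ := by group
      _ = σ ^ k * τ := by rw [CfsgLib.Invol.mul_self_eq_one D.ordτ, one_mul, hτi]
  rw [mul_assoc, h2, ← mul_assoc, ← pow_add, ← two_mul]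

theorem refl_classes {u : G} (hu : u ∈ D.refl) :
    ∃ c ∈ Subgroup.centralizer ({σ ^ 2 ^ (n - 2)} : Set G),
      c * τ * c⁻¹ = u ∨ c * (σ * τ) * c⁻¹ = u := by
  obtain ⟨hC, h2, h1, hz⟩ := (mem_filter.1 hu).2
  have hy2 : IsPGroup 2 (Subgroup.zpowers
      (⟨u, hC⟩ : Subgroup.centralizer ({σ ^ 2 ^ (n - 2)} : Set G))) :=
    IsPGroup.of_card (n := 1) (by
      rw [Nat.card_zpowers, Subgroup.orderOf_mk, CfsgLib.Invol.orderOf_eq_two h2 h1, pow_one])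
  obtain ⟨R, hR⟩ := hy2.exists_le_sylow
  obtain ⟨c, hc⟩ := MulAction.exists_smul_eq
    (Subgroup.centralizer ({σ ^ 2 ^ (n - 2)} : Set G)) R (P.subtype D.le_centralizer)
  have hs : (c : G) * u * (c : G)⁻¹ ∈ (P : Subgroup G) := by
    have h1 : c * ⟨u, hC⟩ * c⁻¹ ∈ ((c • R : Sylow 2 _) : Subgroup _) := by
      rw [Sylow.smul_def, Sylow.pointwise_smul_def]
      exact Subgroup.smul_mem_pointwise_smul _ (MulAut.conj c) _ (hR (Subgroup.mem_zpowers _))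
    rw [hc] at h1
    exact h1
  have hnA : (c : G) * u * (c : G)⁻¹ ∉ Subgroup.zpowers σ := by
    intro h
    refine D.proj_refl hu ?_
    rw [← D.proj_of_mem hs, D.proj_conj c.2 hC] at h
    have h' := D.conj_rot (inv_mem (D.proj_mem (c : G))) h
    rw [show (D.proj c)⁻¹ * (D.proj c * D.proj u * (D.proj c)⁻¹) * (D.proj c)⁻¹⁻¹ = D.proj u by group] at h'
    rcases h' with e | e <;> rw [e]
    exacts [h, inv_mem h]
  obtain ⟨i, hi⟩ := mem_powers_iff_mem_zpowers.2 ((D.cases _ hs).resolve_left hnA)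
  have hi' : (c : G) * u * (c : G)⁻¹ = σ ^ i * τ := by
    rw [show σ ^ i = (c : G) * u * (c : G)⁻¹ * τ from hi, mul_assoc _ τ τ,
      CfsgLib.Invol.mul_self_eq_one D.ordτ, mul_one]
  have hu' : u = (c : G)⁻¹ * (σ ^ i * τ) * (c : G)⁻¹⁻¹ := by rw [← hi']; group
  rcases Nat.even_or_odd i with ⟨k, rfl⟩ | ⟨k, rfl⟩
  · refine ⟨(c : G)⁻¹ * σ ^ k, mul_mem (inv_mem c.2)
      (D.le_centralizer (pow_mem D.σ_mem k)), Or.inl ?_⟩
    rw [hu', ← two_mul, ← D.conj_τ_pow]; group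
  · refine ⟨(c : G)⁻¹ * σ ^ k, mul_mem (inv_mem c.2)
      (D.le_centralizer (pow_mem D.σ_mem k)), Or.inr ?_⟩
    rw [hu', pow_succ', mul_assoc σ, ← D.conj_τ_pow]; group

theorem conj_mem_refl {r c : G} (hr : r ∈ D.refl)
    (hc : c ∈ Subgroup.centralizer ({σ ^ 2 ^ (n - 2)} : Set G)) : c * r * c⁻¹ ∈ D.refl := by
  obtain ⟨hC, h2, h1, hz⟩ := (mem_filter.1 hr).2
  refine mem_filter.2 ⟨mem_univ _, mul_mem (mul_mem hc hC) (inv_mem hc), ?_, ?_, fun h => hz ?_⟩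
  · show MulAut.conj c r * MulAut.conj c r = 1
    rw [← map_mul, h2, map_one]
  · exact fun h => h1 (conj_eq_one_iff.1 h)
  · have hcz : c * σ ^ 2 ^ (n - 2) = σ ^ 2 ^ (n - 2) * c := Subgroup.mem_centralizer_singleton_iff.1 hc
    calc r = c⁻¹ * (c * r * c⁻¹) * c := by group
      _ = σ ^ 2 ^ (n - 2) := by rw [h, mul_assoc, ← hcz, inv_mul_cancel_left]

theorem rot_refl_mem {a : G} (ha : a ∈ Subgroup.zpowers σ) : a * τ ∈ D.refl := by
  have hτi := CfsgLib.Invol.inv_eq_self D.ordτ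
  have hsq : a * τ * (a * τ) = 1 := by
    calc a * τ * (a * τ) = a * (τ * a * τ⁻¹) := by rw [hτi]; group
      _ = 1 := by rw [D.conj_τ ha, mul_inv_cancel]
  have hτA : τ ∉ Subgroup.zpowers σ := fun h => by
    rcases D.eq_z h (CfsgLib.Invol.mul_self_eq_one D.ordτ) with h1 | h1
    · exact CfsgLib.Invol.ne_one D.ordτ h1
    · have h3 : σ⁻¹ = σ := by
        rw [← D.rel, h1]; group
      have h2 := orderOf_le_of_pow_eq_one two_pos
        (by rw [sq, ← inv_eq_iff_mul_eq_one, h3] : σ ^ 2 = 1)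
      rw [D.q_eq] at h2
      have := D.two_le_half
      omega
  have hnA : a * τ ∉ Subgroup.zpowers σ := fun h => hτA (by
    simpa using mul_mem (inv_mem ha) h)
  exact mem_filter.2 ⟨mem_univ _, D.le_centralizer (mul_mem (D.le_sylow ha) D.τ_mem), hsq,
    fun h => hnA (h ▸ one_mem _), fun h => hnA (h ▸ z_mem_zpowers)⟩

theorem card_centralizer_pair (r : G) :
    Nat.card (Subgroup.centralizer ({σ ^ 2 ^ (n - 2), r} : Set G)) =
      Nat.card ↥((Subgroup.centralizer ({r} : Set G)).subgroupOf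
        (Subgroup.centralizer ({σ ^ 2 ^ (n - 2)} : Set G))) := by
  refine Nat.card_congr
    { toFun := fun g => ⟨⟨g, Subgroup.mem_centralizer_iff.2 fun x hx =>
          Subgroup.mem_centralizer_iff.1 g.2 x (Or.inl hx)⟩,
        Subgroup.mem_centralizer_iff.2 fun x hx => Subgroup.mem_centralizer_iff.1 g.2 x (Or.inr hx)⟩
      invFun := fun g => ⟨g.1.1, Subgroup.mem_centralizer_iff.2 ?_⟩
      left_inv := fun g => rfl
      right_inv := fun g => rfl }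
  rintro x (rfl | rfl)
  · exact Subgroup.mem_centralizer_iff.1 g.1.2 _ rfl
  · exact Subgroup.mem_centralizer_iff.1 (Subgroup.mem_subgroupOf.1 g.2) _ rfl

theorem card_conj_image {r : G} (hr : r ∈ D.refl) :
    ((D.refl.filter fun u => ∃ c ∈ Subgroup.centralizer ({σ ^ 2 ^ (n - 2)} : Set G),
      c * r * c⁻¹ = u).card : ℚ) =
      (Nat.card (Subgroup.centralizer ({σ ^ 2 ^ (n - 2)} : Set G)) : ℚ) *
        (1 / (Nat.card (Subgroup.centralizer ({σ ^ 2 ^ (n - 2), r} : Set G)) : ℚ)) := by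
  set C := Subgroup.centralizer ({σ ^ 2 ^ (n - 2)} : Set G) with hC
  haveI : Fintype C := Fintype.ofFinite _
  set r' : C := ⟨r, (mem_filter.1 hr).2.1⟩
  have h1 : (D.refl.filter fun u => ∃ c ∈ C, c * r * c⁻¹ = u).card =
      (univ.filter (IsConj r')).card := by
    symm
    refine card_bij (fun u _ => (u : G)) (fun u hu => ?_) (fun a _ b _ h => Subtype.ext h)
      fun u hu => ?_
    · obtain ⟨c, hc⟩ := isConj_iff.1 (mem_filter.1 hu).2
      have he : (c : G) * r * (c : G)⁻¹ = (u : G) := congrArg Subtype.val hc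
      exact mem_filter.2 ⟨he ▸ D.conj_mem_refl hr c.2, c, c.2, he⟩
    · obtain ⟨c, hc, rfl⟩ := (mem_filter.1 hu).2
      exact ⟨⟨c, hc⟩ * r' * ⟨c, hc⟩⁻¹, mem_filter.2 ⟨mem_univ _, isConj_iff.2 ⟨⟨c, hc⟩, rfl⟩⟩, rfl⟩
  have h3 : Subgroup.centralizer ({r'} : Set C) =
      (Subgroup.centralizer ({r} : Set G)).subgroupOf C := by
    ext g
    rw [Subgroup.mem_subgroupOf, Subgroup.mem_centralizer_singleton_iff,
      Subgroup.mem_centralizer_singleton_iff, Subtype.ext_iff]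
    rfl
  have h4 := (Subgroup.centralizer ({r'} : Set C)).card_mul_index
  rw [← CfsgLib.Block.Chr.card_class, ← h1, h3, ← D.card_centralizer_pair r] at h4
  have h5 : (Nat.card (Subgroup.centralizer ({σ ^ 2 ^ (n - 2), r} : Set G)) : ℚ) ≠ 0 :=
    Nat.cast_ne_zero.2 Nat.card_pos.ne'
  rw [mul_one_div, eq_div_iff h5, ← Nat.cast_mul, mul_comm, h4]

theorem not_conj_reflections {c : G} (hc : c ∈ Subgroup.centralizer ({σ ^ 2 ^ (n - 2)} : Set G)) :
    c * τ * c⁻¹ ≠ σ * τ := by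
  intro h
  have h1 := congrArg D.proj h
  rw [D.proj_conj hc (D.le_centralizer D.τ_mem), D.proj_of_mem D.τ_mem,
    D.proj_of_mem (mul_mem D.σ_mem D.τ_mem)] at h1
  have hq := D.q_eq
  obtain ⟨k, hk⟩ : ∃ k : ℕ, D.proj c = σ ^ k ∨ D.proj c = σ ^ k * τ := by
    rcases D.cases _ (D.proj_mem c) with h' | h'
    · obtain ⟨k, hk⟩ := mem_powers_iff_mem_zpowers.2 h'
      exact ⟨k, Or.inl hk.symm⟩
    · obtain ⟨k, hk⟩ := mem_powers_iff_mem_zpowers.2 h'
      refine ⟨k, Or.inr ?_⟩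
      rw [show σ ^ k = D.proj c * τ from hk, mul_assoc, CfsgLib.Invol.mul_self_eq_one D.ordτ, mul_one]
  have h2 : σ ^ (2 * k) * τ = σ * τ := by
    rw [← h1, ← D.conj_τ_pow]
    rcases hk with hk | hk <;> rw [hk]
    have hτi := CfsgLib.Invol.inv_eq_self D.ordτ
    rw [_root_.mul_inv_rev, hτi]
    calc σ ^ k * τ * (σ ^ k)⁻¹ = σ ^ k * (τ * τ) * τ * (σ ^ k)⁻¹ := by
          rw [CfsgLib.Invol.mul_self_eq_one D.ordτ, mul_one]
      _ = σ ^ k * τ * τ * (τ * (σ ^ k)⁻¹) := by group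
  have h3 : σ ^ (2 * k) = σ ^ 1 := by rw [pow_one]; exact mul_right_cancel h2
  have h4 : 2 * k ≡ 1 [MOD 2] := (pow_eq_pow_iff_modEq.1 h3).of_dvd ⟨_, hq⟩
  unfold Nat.ModEq at h4
  omega

theorem card_refl :
    (D.refl.card : ℚ) = (Nat.card (Subgroup.centralizer ({σ ^ 2 ^ (n - 2)} : Set G)) : ℚ) *
      (1 / (Nat.card (Subgroup.centralizer ({σ ^ 2 ^ (n - 2), τ} : Set G)) : ℚ) +
        1 / (Nat.card (Subgroup.centralizer ({σ ^ 2 ^ (n - 2), σ * τ} : Set G)) : ℚ)) := by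
  have hτ : τ ∈ D.refl := by simpa using D.rot_refl_mem (one_mem _)
  have hστ : σ * τ ∈ D.refl := D.rot_refl_mem (Subgroup.mem_zpowers σ)
  rw [mul_add, ← D.card_conj_image hτ, ← D.card_conj_image hστ, ← Nat.cast_add]
  congr 1
  rw [← card_union_of_disjoint]
  · congr 1
    ext u
    rw [mem_union, mem_filter, mem_filter]
    refine ⟨fun hu => ?_, fun h => h.elim And.left And.left⟩
    obtain ⟨c, hc, e | e⟩ := D.refl_classes hu
    exacts [Or.inl ⟨hu, c, hc, e⟩, Or.inr ⟨hu, c, hc, e⟩]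
  · rw [disjoint_filter]
    rintro u - ⟨c, hc, rfl⟩ ⟨d, hd, he⟩
    refine D.not_conj_reflections (mul_mem (inv_mem hd) hc) ?_
    calc d⁻¹ * c * τ * (d⁻¹ * c)⁻¹ = d⁻¹ * (c * τ * c⁻¹) * d := by group
      _ = σ * τ := by rw [← he]; group

variable {M : Ideal AlgInt} [M.IsPrime] [Fintype (IrrCharacter G)]

/-- **The order formula.** -/
theorem order_formula (hM : IsPModular 2 M)
    (hconj : IsConj (σ ^ 2 ^ (n - 2)) τ ∧ IsConj (σ ^ 2 ^ (n - 2)) (σ * τ))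
    {χ : IrrCharacter G} (hχ : χ ∈ principalBlock M G) (h1 : (χ : G → ℂ) ≠ fun _ => 1)
    {δ : ℤ} (hδ : δ = 1 ∨ δ = -1)
    (hval : ∀ l : ℕ, 0 < l → l < 2 ^ (n - 1) → (χ : G → ℂ) (σ ^ l) = δ) :
    2 * ((D.refl.card : ℕ) : ℂ) * D.refl.card *
        Nat.card (Subgroup.centralizer ({σ ^ 2 ^ (n - 2)} : Set G)) *
        ((χ : G → ℂ) 1 * ((χ : G → ℂ) 1 + δ)) =
      (Nat.card G : ℂ) * ((χ : G → ℂ) 1 - δ) ^ 2 ∧ (χ : G → ℂ) 1 + δ ≠ 0 := by
  have hq : 2 ^ (n - 1) = 2 * 2 ^ (n - 2) := two_mul_pow D.hn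
  have hh2 := D.two_le_half
  have hheven : Even (2 ^ (n - 2)) := Nat.even_pow.2 ⟨even_two, by have := D.hn; omega⟩
  obtain ⟨ζ, hζ⟩ : ∃ ζ : ℂ, IsPrimitiveRoot ζ (2 ^ (n - 1)) :=
    ⟨_, Complex.isPrimitiveRoot_exp _ (by positivity)⟩
  obtain ⟨a₁, a₂, a₃, χ', δ₁, δ₂, δ₃, e1, e2, e3, -, -, -, -, -, -, -, -, hB, hv, hrel, hsum⟩ :=
    D.exists_table hM hζ
  have hpowh : ζ ^ 2 ^ (n - 2) = -1 := by
    have h1 : ζ ^ 2 ^ (n - 2) * ζ ^ 2 ^ (n - 2) = 1 := by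
      rw [← pow_add, ← two_mul, ← hq, hζ.pow_eq_one]
    exact (mul_self_eq_one_iff.1 h1).resolve_left (hζ.pow_ne_one_of_pos_of_lt (by omega) (by omega))
  have hδne : ∀ e : ℤ, (e = 1 ∨ e = -1) → (e : ℂ) ≠ 0 := fun e he => by
    rcases he with rfl | rfl <;> norm_num
  -- identification
  have hχa : χ = a₁ := by
    have hBmem : (χ : G → ℂ) = (fun _ => 1) ∨ χ = a₁ ∨ χ = a₂ ∨ χ = a₃ ∨ ∃ j, χ = χ' j := by
      rw [hB] at hχ; exact hχ
    rcases hBmem with h | h | h | h | ⟨j, h⟩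
    · exact absurd h h1
    · exact h
    · exfalso
      have p1 := ((hv 1 one_pos (by omega)).2.1).symm.trans (h ▸ hval 1 one_pos (by omega))
      have p2 := ((hv 2 two_pos (by omega)).2.1).symm.trans (h ▸ hval 2 two_pos (by omega))
      exact hδne δ₂ e2 (by linear_combination (p1 - p2) / 2)
    · exfalso
      have p1 := ((hv 1 one_pos (by omega)).2.2.1).symm.trans (h ▸ hval 1 one_pos (by omega))
      have p2 := ((hv 2 two_pos (by omega)).2.2.1).symm.trans (h ▸ hval 2 two_pos (by omega))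
      exact hδne δ₃ e3 (by linear_combination (p1 - p2) / 2)
    · exfalso
      have p := ((hv (2 ^ (n - 2)) (by omega) (by omega)).2.2.2 j).symm.trans
        (h ▸ hval (2 ^ (n - 2)) (by omega) (by omega))
      rw [mul_comm _ (2 ^ (n - 2)), pow_mul, hpowh] at p
      rcases neg_one_pow_eq_or ℂ ((j : ℕ) + 1) with e | e <;> rw [e] at p <;>
        rcases hδ with rfl | rfl <;> rcases e1 with rfl | rfl <;> norm_num at p
  subst hχa
  have hδeq : δ₁ = δ := by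
    have := ((hv 1 one_pos (by omega)).1).symm.trans (hval 1 one_pos (by omega))
    exact_mod_cast this
  subst hδeq
  -- degrees of the two-dimensional characters
  have hd' : ∀ j, (χ' j : G → ℂ) 1 = (χ : G → ℂ) 1 + δ₁ := fun j => by
    have h := (hrel 1 (by simp) j).2
    rcases e1 with rfl | rfl <;> push_cast at h ⊢
    · linear_combination -h
    · linear_combination h
  have hj0 : 0 < 2 ^ (n - 2) - 1 := by omega
  have hd'0 : (χ : G → ℂ) 1 + δ₁ ≠ 0 := by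
    rw [← hd' ⟨0, hj0⟩]; exact irr_one_ne_zero _
  refine ⟨?_, hd'0⟩
  -- involutions
  have hinv : ∀ v : G, orderOf v = 2 → IsConj (σ ^ 2 ^ (n - 2)) v := by
    intro v hv2
    obtain ⟨R, hR⟩ := (IsPGroup.of_card (n := 1) (by rw [Nat.card_zpowers, hv2, pow_one]) :
      IsPGroup 2 (Subgroup.zpowers v)).exists_le_sylow
    obtain ⟨g, hg⟩ := MulAction.exists_smul_eq G R P
    have hgv : g * v * g⁻¹ ∈ (P : Subgroup G) := by
      rw [← hg, Sylow.smul_def, Sylow.pointwise_smul_def]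
      exact Subgroup.smul_mem_pointwise_smul _ (MulAut.conj g) _ (hR (Subgroup.mem_zpowers v))
    have hgv2 : orderOf (g * v * g⁻¹) = 2 := by rw [CfsgLib.Invol.orderOf_conj_eq, hv2]
    have hcv : IsConj v (g * v * g⁻¹) := isConj_iff.2 ⟨g, rfl⟩
    refine IsConj.trans ?_ hcv.symm
    rcases D.cases _ hgv with h | h
    · rcases D.eq_z h (CfsgLib.Invol.mul_self_eq_one hgv2) with h' | h'
      · exact absurd h' (CfsgLib.Invol.ne_one hgv2)
      · rw [h']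
    · obtain ⟨i, hi⟩ := mem_powers_iff_mem_zpowers.2 h
      have hi' : g * v * g⁻¹ = σ ^ i * τ := by
        rw [show σ ^ i = g * v * g⁻¹ * τ from hi, mul_assoc _ τ τ,
          CfsgLib.Invol.mul_self_eq_one D.ordτ, mul_one]
      rw [hi']
      rcases Nat.even_or_odd i with ⟨k, rfl⟩ | ⟨k, rfl⟩
      · exact hconj.1.trans (isConj_iff.2 ⟨σ ^ k, by rw [D.conj_τ_pow, two_mul]⟩)
      · refine hconj.2.trans (isConj_iff.2 ⟨σ ^ k, ?_⟩)
        rw [pow_succ', mul_assoc σ (σ ^ (2 * k)), ← D.conj_τ_pow]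
        group
  -- the class sums
  let e : ℂ := (δ₂ : ℂ) / (a₂ : G → ℂ) 1 + (δ₃ : ℂ) / (a₃ : G → ℂ) 1
  let a : ℂ := (δ₁ : ℂ) / (χ : G → ℂ) 1
  let b : ℂ := (δ₁ : ℂ) / ((χ : G → ℂ) 1 + δ₁)
  have hS : ∀ l : ℕ, 0 < l → l < 2 ^ (n - 1) →
      ∑ ψ ∈ univ.filter (· ∈ principalBlock M G), conj ((ψ : G → ℂ) (σ ^ l)) *
          (ψ : G → ℂ) (σ ^ 2 ^ (n - 2)) * (ψ : G → ℂ) (σ ^ 2 ^ (n - 2)) / (ψ : G → ℂ) 1 =
        1 + a - (-1) ^ l * e + 4 * b * (-1 - (-1) ^ l) := by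
    intro l hl0 hl
    have hreal : ∀ ψ : IrrCharacter G, conj ((ψ : G → ℂ) (σ ^ l)) = (ψ : G → ℂ) (σ ^ l) := fun ψ => by
      rw [conj_irr]
      exact CfsgLib.Char.IsClassFunction.apply_eq_of_isConj (isClassFunction_irr ψ)
        (D.isConj_inv (Subgroup.npow_mem_zpowers σ l)).symm
    simp only [hreal]
    obtain ⟨v1, v2, v3, v4⟩ := hv l hl0 hl
    obtain ⟨z1, z2, z3, z4⟩ := hv (2 ^ (n - 2)) (by omega) (by omega)
    have hp4 : ∀ j : Fin (2 ^ (n - 2) - 1),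
        (χ' j : G → ℂ) (σ ^ l) * (χ' j : G → ℂ) (σ ^ 2 ^ (n - 2)) *
          (χ' j : G → ℂ) (σ ^ 2 ^ (n - 2)) / (χ' j : G → ℂ) 1 =
        4 * b * (ζ ^ (((j : ℕ) + 1) * l) + (ζ ^ (((j : ℕ) + 1) * l))⁻¹) := fun j => by
      rw [v4 j, z4 j, hd' j,
        show ζ ^ (((j : ℕ) + 1) * 2 ^ (n - 2)) = (-1) ^ ((j : ℕ) + 1) by
          rw [mul_comm, pow_mul, hpowh]]
      simp only [b]
      rcases neg_one_pow_eq_or ℂ ((j : ℕ) + 1) with e' | e' <;> rw [e'] <;>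
        rcases e1 with rfl | rfl <;> push_cast <;> ring
    rw [hsum, v1, v2, v3, z1, z2, z3, sum_congr rfl fun j _ => hp4 j, ← mul_sum,
      sum_pairs (hq ▸ hζ) (by omega) hl0 (hq ▸ hl)]
    simp only [oneIrr_apply, e, a, pow_succ, hheven.neg_one_pow]
    rcases e1 with rfl | rfl <;> rcases e2 with rfl | rfl <;> rcases e3 with rfl | rfl <;>
      push_cast <;> ring
  -- the counting
  set K := univ.filter (IsConj (σ ^ 2 ^ (n - 2))) with hK
  let N : ℕ → ℂ := fun l => (K.card : ℂ) *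
    (((D.refl ×ˢ D.refl).filter
      fun uw => D.proj (uw.1 * uw.2) = σ ^ l ∨ D.proj (uw.1 * uw.2) = (σ ^ l)⁻¹).card : ℂ)
  have hcount : ∀ l : ℕ, 0 < l → l < 2 ^ (n - 1) → ∀ m,
      (core 2 (σ ^ l)).index = 2 ^ m → N l * (2 ^ m : ℕ) =
        (K.card : ℂ) * K.card * (1 + a - (-1) ^ l * e + 4 * b * (-1 - (-1) ^ l)) := by
    intro l hl0 hl m hm
    have hl1 : σ ^ l ≠ 1 := pow_ne_one_of_lt_orderOf hl0.ne' (by rw [D.ordσ]; exact hl)
    obtain ⟨k, hk⟩ := D.exists_orderOf (Subgroup.npow_mem_zpowers σ l)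
    have h := card_pairs hM hk hm (σ ^ 2 ^ (n - 2)) (σ ^ 2 ^ (n - 2))
    rw [D.card_section hinv (Subgroup.npow_mem_zpowers σ l) hl1, hS l hl0 hl, Nat.cast_mul] at h
    exact h
  have hinvl : ∀ l, l ≤ 2 ^ (n - 1) → (σ ^ l)⁻¹ = σ ^ (2 * 2 ^ (n - 2) - l) := fun l hl => by
    symm
    refine eq_inv_of_mul_eq_one_left ?_
    rw [← pow_add, Nat.sub_add_cancel (hq ▸ hl), ← D.q_eq, pow_orderOf_eq_one]
  let F : ℕ → ℂ := fun l => ((D.fibre (σ ^ l)).card : ℂ)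
  have hNh : N (2 ^ (n - 2)) = (K.card : ℂ) * F (2 ^ (n - 2)) := by
    simp only [N, F, D.z_inv, or_self, fibre]
  have hNi : ∀ i : Fin (2 ^ (n - 2) - 1), N ((i : ℕ) + 1) =
      (K.card : ℂ) * (F ((i : ℕ) + 1) + F (2 * 2 ^ (n - 2) - ((i : ℕ) + 1))) := fun i => by
    have hne : σ ^ ((i : ℕ) + 1) ≠ (σ ^ ((i : ℕ) + 1))⁻¹ := fun h => by
      rw [hinvl _ (by omega)] at h
      have := pow_injOn_Iio_orderOf (by rw [Set.mem_Iio, D.q_eq]; omega)
        (by rw [Set.mem_Iio, D.q_eq]; omega) h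
      omega
    simp only [N, F, ← hinvl ((i : ℕ) + 1) (by omega), ← Nat.cast_add]
    congr 2
    rw [fibre, fibre, filter_or, card_union_of_disjoint]
    rw [disjoint_filter]
    rintro uw - h h'
    exact hne (h.symm.trans h')
  have htot : (K.card : ℂ) * ((D.refl.card : ℂ) * D.refl.card) =
      2 * N (2 ^ (n - 2)) + ∑ i : Fin (2 ^ (n - 2) - 1), N ((i : ℕ) + 1) := by
    have h0 : F 0 = F (2 ^ (n - 2)) := by simp only [F, pow_zero, D.card_fibre_z]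
    rw [← Nat.cast_mul, D.card_refl_sq, Nat.cast_sum, sum_range_two_mul _ (by omega)]
    simp only [hNh, hNi, ← mul_sum]
    show (K.card : ℂ) * (F 0 + F (2 ^ (n - 2)) + ∑ i : Fin (2 ^ (n - 2) - 1),
      (F ((i : ℕ) + 1) + F (2 * 2 ^ (n - 2) - ((i : ℕ) + 1)))) = _
    rw [h0]; ring
  have hmid := hcount (2 ^ (n - 2)) (by omega) (by omega) n D.index_core_z
  rw [hheven.neg_one_pow] at hmid
  have hrot : ∀ i : Fin (2 ^ (n - 2) - 1), N ((i : ℕ) + 1) * (2 ^ (n - 1) : ℕ) =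
      (K.card : ℂ) * K.card *
        (1 + a - 4 * b + (-1) ^ (i : ℕ) * (e + 4 * b)) := fun i => by
    rw [hcount ((i : ℕ) + 1) (by omega) (by omega) (n - 1) (D.index_core_rot
      (Subgroup.npow_mem_zpowers σ _) (pow_ne_one_of_lt_orderOf (by omega) (by rw [D.ordσ]; omega))
      fun h => by
        have := pow_injOn_Iio_orderOf (by rw [Set.mem_Iio, D.q_eq]; omega)
          (by rw [Set.mem_Iio, D.q_eq]; omega) h
        omega), pow_succ]
    ring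
  have hmain : 2 * ((D.refl.card : ℂ) * D.refl.card) = (K.card : ℂ) * (1 + a - 4 * b) := by
    have h3 := congrArg (· * ((2 ^ (n - 1) : ℕ) : ℂ)) htot
    simp only [add_mul, sum_mul, hrot, ← mul_sum, sum_add_distrib, sum_const, card_univ,
      Fintype.card_fin, nsmul_eq_mul] at h3
    rw [← sum_mul, sum_neg_one_pow (Nat.Even.sub_odd (by omega) hheven odd_one),
      Nat.cast_sub (by omega : 1 ≤ 2 ^ (n - 2))] at h3
    have hn2 : (2 ^ n : ℕ) = 2 * 2 ^ (n - 1) := by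
      rw [← pow_succ', show n - 1 + 1 = n by have := D.hn; omega]
    rw [hn2, hq] at hmid
    rw [hq] at h3
    push_cast at hmid h3
    have hK0 : (K.card : ℂ) ≠ 0 :=
      Nat.cast_ne_zero.2 (card_pos.2 ⟨_, mem_filter.2 ⟨mem_univ _, IsConj.refl (σ ^ 2 ^ (n - 2))⟩⟩).ne'
    have hh0 : ((2 : ℂ) ^ (n - 2)) ≠ 0 := pow_ne_zero _ two_ne_zero
    refine mul_left_cancel₀ (mul_ne_zero hK0 hh0) ?_
    linear_combination h3 + hmid
  have hKC : (K.card : ℂ) * Nat.card (Subgroup.centralizer ({σ ^ 2 ^ (n - 2)} : Set G)) =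
      (Nat.card G : ℂ) := by
    rw [← Nat.cast_mul, hK, CfsgLib.Block.Chr.card_class, Subgroup.index_mul_card]
  have hab : (1 + a - 4 * b) * ((χ : G → ℂ) 1 * ((χ : G → ℂ) 1 + δ₁)) = ((χ : G → ℂ) 1 - δ₁) ^ 2 := by
    have hd : (χ : G → ℂ) 1 ≠ 0 := irr_one_ne_zero _
    have hsq : (δ₁ : ℂ) ^ 2 = 1 := by rcases e1 with rfl | rfl <;> norm_num
    simp only [a, b]
    field_simp
    linear_combination 0 * hsq
  rw [← hKC]
  linear_combination (Nat.card (Subgroup.centralizer ({σ ^ 2 ^ (n - 2)} : Set G)) : ℂ) *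
    ((χ : G → ℂ) 1 * ((χ : G → ℂ) 1 + δ₁)) * hmain +
    (K.card : ℂ) * Nat.card (Subgroup.centralizer ({σ ^ 2 ^ (n - 2)} : Set G)) * hab

end Data

end CfsgLib.DihPrincipal
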